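import Groth.Agent.AlgSp.K623.BddDesc
import Groth.Agent.FlatA.ZMTFactor
import Mathlib.AlgebraicGeometry.Morphisms.Separated

/-!
# Locally quasi-finite morphisms with quasi-compact source have universally bounded fibres
-/

universe u

open CategoryTheory CategoryTheory.Limits AlgebraicGeometry TensorProduct

namespace K623.BddQF

open K623.BddBridge K623.BddFle K623.BddCover K623.BddComp K623.BddDesc

theorem finite_of_iso {K : Type u} [Field K] {n : ℕ} {T T' : Scheme.{u}} (e : T ⟶ T') [IsIso e]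
    (p : T' ⟶ Spec (CommRingCat.of K)) (h1 : IsFinite p) (h2 : ∀ s, p.finrank s ≤ n) :
    IsFinite (e ≫ p) ∧ ∀ s, (e ≫ p).finrank s ≤ n := by
  refine ⟨inferInstance, fun s => ?_⟩
  rw [Scheme.Hom.finrank_comp_left_of_isIso]
  exact h2 s

/-- It is enough to check one fibre product for every field-valued point. -/
theorem fle_of_exists {n : ℕ} {X Y : Scheme.{u}} (f : X ⟶ Y)
    (h : ∀ (K : Type u) [Field K] (g : Spec (CommRingCat.of K) ⟶ Y), ∃ (T : Scheme.{u}) (fst : T ⟶ X)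
      (snd : T ⟶ Spec (CommRingCat.of K)), IsPullback fst snd f g ∧ IsFinite snd ∧
        ∀ s, snd.finrank s ≤ n) : FLE n f := by
  intro K _ g T fst snd hT
  obtain ⟨T', fst', snd', hT', h1, h2⟩ := h K g
  have := finite_of_iso (hT.isoIsPullback _ _ hT').hom snd' h1 h2
  rwa [IsPullback.isoIsPullback_hom_snd] at this

theorem finite_of_isEmpty {K : Type u} [Field K] {n : ℕ} {T : Scheme.{u}} [IsEmpty T]
    (p : T ⟶ Spec (CommRingCat.of K)) : IsFinite p ∧ ∀ s, p.finrank s ≤ n := by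
  have h1 : IsFinite p := inferInstance
  refine ⟨h1, fun s => ?_⟩
  by_contra hcon
  have hpos : 1 ≤ p.finrank s := by omega
  have hsurj : Surjective p := by
    rw [← Scheme.Hom.one_le_finrank_iff_surjective]
    intro s'
    have : s' = s := Subsingleton.elim (α := PrimeSpectrum K) _ _
    rw [this]; exact hpos
  obtain ⟨t, -⟩ := hsurj.surj s
  exact IsEmpty.false t

/-- Open immersions have fibre degrees at most `1`. -/
theorem fle_of_isOpenImmersion {X Y : Scheme.{u}} (j : X ⟶ Y) [IsOpenImmersion j] : FLE 1 j := by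
  intro K _ g T fst snd hT
  have hopen : IsOpenImmersion snd := MorphismProperty.of_isPullback hT ‹_›
  rcases isEmpty_or_nonempty T with hE | ⟨⟨t⟩⟩
  · exact finite_of_isEmpty snd
  · have hs : Surjective snd := ⟨fun s => ⟨t, Subsingleton.elim (α := PrimeSpectrum K) _ _⟩⟩
    have : IsIso snd := (isIso_iff_isOpenImmersion_and_surjective _).2 ⟨hopen, hs⟩
    refine ⟨inferInstance, fun s => ?_⟩
    rw [Scheme.Hom.finrank_eq_one_of_isIso]
    rfl

/-- A finite morphism to an affine scheme has universally bounded fibres. -/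
theorem exists_fle_of_isFinite {T Y : Scheme.{u}} [IsAffine Y] (π : T ⟶ Y) [IsFinite π] : ∃ n, FLE n π := by
  have hT : IsAffine T := isAffine_of_isAffineHom π
  let _ : Algebra Γ(Y, ⊤) Γ(T, ⊤) := π.appTop.hom.toAlgebra
  have hfin : Module.Finite Γ(Y, ⊤) Γ(T, ⊤) := π.finite_appTop
  obtain ⟨n, v, hv⟩ := Module.Finite.exists_fin (R := Γ(Y, ⊤)) (M := Γ(T, ⊤))
  refine ⟨n, fle_of_exists π fun K _ g => ?_⟩
  let φ : Γ(Y, ⊤) →+* K := (g.appTop ≫ (Scheme.ΓSpecIso (CommRingCat.of K)).hom).hom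
  let _ : Algebra Γ(Y, ⊤) K := φ.toAlgebra
  have hg : Spec.map (CommRingCat.ofHom (algebraMap Γ(Y, ⊤) K)) ≫ Y.isoSpec.inv = g := by
    rw [Iso.comp_inv_eq]
    change Spec.map (g.appTop ≫ (Scheme.ΓSpecIso (CommRingCat.of K)).hom) = _
    rw [Spec.map_comp, ← Scheme.isoSpec_hom_naturality, Scheme.isoSpec_Spec_hom]
  have h1 := isPullback_SpecMap_of_isPushout _ _ _ _
    (CommRingCat.isPushout_tensorProduct Γ(Y, ⊤) K Γ(T, ⊤))
  have h2 : IsPullback T.isoSpec.inv (Spec.map π.appTop) π Y.isoSpec.inv :=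
    IsPullback.of_horiz_isIso ⟨(Scheme.isoSpec_inv_naturality π).symm⟩
  have h3 := h1.flip.paste_horiz h2
  rw [hg] at h3
  refine ⟨_, _, _, h3, ?_⟩
  have h4 := (finite_specMap_iff (K := K) (A := K ⊗[Γ(Y, ⊤)] Γ(T, ⊤)) n).2
  refine h4 ⟨inferInstance, ?_⟩
  let f : (Fin n → Γ(Y, ⊤)) →ₗ[Γ(Y, ⊤)] Γ(T, ⊤) := Fintype.linearCombination Γ(Y, ⊤) v
  have hf : Function.Surjective f := by
    rw [← LinearMap.range_eq_top, Fintype.range_linearCombination, hv]
  have hf2 : Function.Surjective (f.baseChange K) := LinearMap.lTensor_surjective K hf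
  refine (LinearMap.finrank_le_finrank_of_surjective hf2).trans ?_
  have : Nontrivial Γ(Y, ⊤) := φ.domain_nontrivial
  rw [Module.finrank_baseChange]
  simp

theorem exists_fle_affine {X Y : Scheme.{u}} [IsAffine X] [IsAffine Y] (f : X ⟶ Y)
    [LocallyQuasiFinite f] [LocallyOfFiniteType f] : ∃ n, FLE n f := by
  obtain ⟨T, j, π, h1, -, h3, h4, h5⟩ := Groth.Agent.FlatA.ZMTFactor.exists_factor f
  obtain ⟨n, hn⟩ := exists_fle_of_isFinite π
  refine ⟨1 * n, ?_⟩
  rw [← h5]
  exact fle_comp (fle_of_isOpenImmersion j) hn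

/-- A locally quasi-finite morphism locally of finite type with quasi-compact source has universally bounded
fibres. -/
theorem exists_fle_of_compactSpace {X Y : Scheme.{u}} (f : X ⟶ Y) [LocallyQuasiFinite f]
    [LocallyOfFiniteType f] [CompactSpace X] : ∃ n, FLE n f := by
  have h1 : ∀ x : X, ∃ (U : X.Opens), IsAffineOpen U ∧ x ∈ U ∧ ∃ n, FLE n (U.ι ≫ f) := by
    intro x
    obtain ⟨_, ⟨V, hV, rfl⟩, hxV, -⟩ := Y.isBasis_affineOpens.exists_subset_of_mem_open
      (Set.mem_univ (f x)) isOpen_univ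
    let V : Y.Opens := V
    obtain ⟨_, ⟨U, hU, rfl⟩, hxU, hUV⟩ := X.isBasis_affineOpens.exists_subset_of_mem_open
      (show x ∈ (f ⁻¹ᵁ V : Set X) from hxV) (f ⁻¹ᵁ V).2
    let U : X.Opens := U
    refine ⟨U, hU, hxU, ?_⟩
    have : IsAffine U.toScheme := hU
    have : IsAffine V.toScheme := hV
    have hle : U ≤ f ⁻¹ᵁ V := hUV
    let g : U.toScheme ⟶ V.toScheme := f.resLE V U hle
    have hg : g ≫ V.ι = U.ι ≫ f := f.resLE_comp_ι hle
    have hg1 : LocallyOfFiniteType g := by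
      have : LocallyOfFiniteType (g ≫ V.ι) := by rw [hg]; infer_instance
      exact locallyOfFiniteType_of_comp g V.ι
    have hg2 : LocallyQuasiFinite g := by
      have : LocallyQuasiFinite (g ≫ V.ι) := by rw [hg]; infer_instance
      exact LocallyQuasiFinite.of_comp g V.ι
    obtain ⟨n, hn⟩ := exists_fle_affine g
    refine ⟨n * 1, ?_⟩
    rw [← hg]
    exact fle_comp hn (fle_of_isOpenImmersion V.ι)
  choose U hU hxU n hn using h1
  obtain ⟨t, ht⟩ := CompactSpace.elim_nhds_subcover (fun x => (U x : Set X))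
    (fun x => (U x).2.mem_nhds (hxU x))
  refine ⟨∑ x : t, n x, fle_of_flat_cover f (fun x : t => (U x).toScheme) (fun x => (U x).ι) ?_
    (fun x => n x) (fun x => hn x)⟩
  intro y
  have hy : y ∈ ⋃ x ∈ t, (U x : Set X) := by rw [ht]; trivial
  simp only [Set.mem_iUnion] at hy
  obtain ⟨x, hxt, hyx⟩ := hy
  exact ⟨⟨x, hxt⟩, ⟨y, hyx⟩, rfl⟩

end K623.BddQF
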