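import Mathlib.LinearAlgebra.TensorProduct.Quotient
import Mathlib.RingTheory.Artinian.Module
import Mathlib.RingTheory.Artinian.Ring
import Mathlib.RingTheory.HopkinsLevitzki
import Mathlib.RingTheory.Spectrum.Prime.Noetherian
import Mathlib.LinearAlgebra.Dimension.Free
import Mathlib.LinearAlgebra.FreeModule.Finite.Basic

/-!
# Modules over Artinian rings with bounded fibre dimensions
-/

universe u v w

open TensorProduct

namespace K623.ArtGen

variable {B : Type u} [CommRing B] {M : Type v} [AddCommGroup M] [Module B M]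

/-- A family of `n` elements generating `M` modulo `m`. -/
theorem exists_gen_of_fibre (m : Ideal B) [m.IsMaximal] (n : ℕ)
    (h1 : Module.Finite (B ⧸ m) ((B ⧸ m) ⊗[B] M)) (h2 : Module.finrank (B ⧸ m) ((B ⧸ m) ⊗[B] M) ≤ n) :
    ∃ v : Fin n → M, ∀ x : M, ∃ b : Fin n → B, x - ∑ j, b j • v j ∈ m • (⊤ : Submodule B M) := by
  classical
  let _ : Field (B ⧸ m) := Ideal.Quotient.field m
  let bas := Module.finBasis (B ⧸ m) ((B ⧸ m) ⊗[B] M)
  have hsurj : ∀ z : (B ⧸ m) ⊗[B] M, ∃ x : M, (1 : B ⧸ m) ⊗ₜ[B] x = z := by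
    intro z
    induction z using TensorProduct.induction_on with
    | zero => exact ⟨0, by simp⟩
    | tmul a x =>
      obtain ⟨a, rfl⟩ := Ideal.Quotient.mk_surjective a
      refine ⟨a • x, ?_⟩
      rw [← TensorProduct.smul_tmul]
      congr 1
      rw [Algebra.smul_def, mul_one]
      rfl
    | add z₁ z₂ h₁ h₂ =>
      obtain ⟨x₁, rfl⟩ := h₁
      obtain ⟨x₂, rfl⟩ := h₂
      exact ⟨x₁ + x₂, TensorProduct.tmul_add _ _ _⟩
  let f : Fin n → (B ⧸ m) ⊗[B] M := fun j =>
    if h : (j : ℕ) < Module.finrank (B ⧸ m) ((B ⧸ m) ⊗[B] M) then bas ⟨j, h⟩ else 0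
  choose v hv using fun j => hsurj (f j)
  have hspan : ∀ z : (B ⧸ m) ⊗[B] M, ∃ c : Fin n → (B ⧸ m), z = ∑ j, c j • f j := by
    intro z
    let e : Fin (Module.finrank (B ⧸ m) ((B ⧸ m) ⊗[B] M)) ↪ Fin n := Fin.castLEEmb h2
    refine ⟨fun j => if h : (j : ℕ) < Module.finrank (B ⧸ m) ((B ⧸ m) ⊗[B] M) then
      bas.repr z ⟨j, h⟩ else 0, ?_⟩
    conv_lhs => rw [← bas.sum_repr z]
    symm
    rw [← Finset.sum_subset (Finset.subset_univ (Finset.univ.map e))]
    · rw [Finset.sum_map]
      refine Finset.sum_congr rfl fun i _ => ?_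
      have : ((e i : Fin n) : ℕ) < Module.finrank (B ⧸ m) ((B ⧸ m) ⊗[B] M) := i.2
      simp only [f, this, dif_pos]
      rfl
    · intro j _ hj
      have : ¬ (j : ℕ) < Module.finrank (B ⧸ m) ((B ⧸ m) ⊗[B] M) := by
        intro hlt
        apply hj
        rw [Finset.mem_map]
        exact ⟨⟨j, hlt⟩, Finset.mem_univ _, rfl⟩
      simp [f, this]
  refine ⟨v, fun x => ?_⟩
  obtain ⟨c, hc⟩ := hspan ((1 : B ⧸ m) ⊗ₜ[B] x)
  choose b hb using fun j => Ideal.Quotient.mk_surjective (c j)
  refine ⟨b, ?_⟩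
  rw [← Submodule.Quotient.mk_eq_zero, ← TensorProduct.quotTensorEquivQuotSMul_mk_one_tmul,
    TensorProduct.tmul_sub, hc]
  have : (1 : B ⧸ m) ⊗ₜ[B] (∑ j, b j • v j) = ∑ j, c j • f j := by
    rw [TensorProduct.tmul_sum]
    refine Finset.sum_congr rfl fun j _ => ?_
    rw [← hv j, TensorProduct.smul_tmul', smul_eq_mul, mul_one, ← TensorProduct.smul_tmul, ← hb j]
    congr 1
    rw [Algebra.smul_def, mul_one]
    rfl
  rw [this, sub_self, map_zero]

/-- Over a Noetherian ring with all primes maximal, `n` elements generating modulo each maximal ideal exist, and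
generate. -/
theorem exists_gen [IsArtinianRing B] (n : ℕ)
    (h : ∀ m : Ideal B, m.IsMaximal → Module.Finite (B ⧸ m) ((B ⧸ m) ⊗[B] M) ∧
      Module.finrank (B ⧸ m) ((B ⧸ m) ⊗[B] M) ≤ n) :
    ∃ v : Fin n → M, Submodule.span B (Set.range v) = ⊤ := by
  classical
  have hfin : Finite (MaximalSpectrum B) := inferInstance
  choose v hv using fun m : MaximalSpectrum B =>
    have := m.isMaximal
    exists_gen_of_fibre (M := M) m.asIdeal n (h _ m.isMaximal).1 (h _ m.isMaximal).2
  have hcop : Pairwise (Function.onFun IsCoprime fun m : MaximalSpectrum B => m.asIdeal) := by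
    intro m m' hne
    exact Ideal.isCoprime_iff_sup_eq.2 (Ideal.IsMaximal.coprime_of_ne m.isMaximal m'.isMaximal
      (fun he => hne (MaximalSpectrum.ext he)))
  have := Fintype.ofFinite (MaximalSpectrum B)
  choose e he using fun m : MaximalSpectrum B =>
    Ideal.exists_forall_sub_mem_ideal hcop (fun m' => if m' = m then (1 : B) else 0)
  let c : Fin n → M := fun j => ∑ m, e m • v m j
  refine ⟨c, ?_⟩
  set N := Submodule.span B (Set.range c) with hN
  -- `M = N + m M` for every maximal ideal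
  have hc : ∀ (m : MaximalSpectrum B) (j : Fin n), c j - v m j ∈ m.asIdeal • (⊤ : Submodule B M) := by
    intro m j
    have h1 : c j - v m j = (e m - 1) • v m j + ∑ m' ∈ Finset.univ.erase m, e m' • v m' j := by
      have : c j = e m • v m j + ∑ m' ∈ Finset.univ.erase m, e m' • v m' j :=
        (Finset.add_sum_erase _ _ (Finset.mem_univ m)).symm
      rw [this, sub_smul, one_smul]
      abel
    rw [h1]
    refine Submodule.add_mem _ (Submodule.smul_mem_smul ?_ trivial) (Submodule.sum_mem _ fun m' hm' =>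
      Submodule.smul_mem_smul ?_ trivial)
    · have := he m m
      simpa using this
    · have := he m' m
      rw [if_neg (Finset.ne_of_mem_erase hm').symm, sub_zero] at this
      exact this
  have key : ∀ m : MaximalSpectrum B, ∀ x : M, ∃ y ∈ N, x - y ∈ m.asIdeal • (⊤ : Submodule B M) := by
    intro m x
    obtain ⟨b, hb⟩ := hv m x
    refine ⟨∑ j, b j • c j, Submodule.sum_mem _ fun j _ => Submodule.smul_mem _ _
      (Submodule.subset_span ⟨j, rfl⟩), ?_⟩
    have : x - ∑ j, b j • c j = (x - ∑ j, b j • v m j) - ∑ j, b j • (c j - v m j) := by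
      simp only [smul_sub, Finset.sum_sub_distrib]
      abel
    rw [this]
    exact Submodule.sub_mem _ hb (Submodule.sum_mem _ fun j _ => Submodule.smul_mem _ _ (hc m j))
  -- pass to the quotient
  have hq : ∀ m : MaximalSpectrum B, m.asIdeal • (⊤ : Submodule B (M ⧸ N)) = ⊤ := by
    intro m
    rw [eq_top_iff]
    rintro x -
    obtain ⟨x, rfl⟩ := Submodule.Quotient.mk_surjective N x
    obtain ⟨y, hy, hxy⟩ := key m x
    have h1 : Submodule.map N.mkQ (m.asIdeal • (⊤ : Submodule B M)) ≤ m.asIdeal • ⊤ := by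
      rw [Submodule.map_smul'']
      exact Submodule.smul_mono le_rfl le_top
    have h2 := h1 (Submodule.mem_map_of_mem hxy)
    have h3 : N.mkQ (x - y) = Submodule.Quotient.mk x := by
      rw [map_sub, Submodule.mkQ_apply, Submodule.mkQ_apply, (Submodule.Quotient.mk_eq_zero N).2 hy,
        sub_zero]
    rw [h3] at h2
    exact h2
  obtain ⟨Z, hZ⟩ := PrimeSpectrum.exists_primeSpectrum_prod_le B (⊥ : Ideal B)
  have hZ2 : ∀ Z : Multiset (PrimeSpectrum B), (Z.map PrimeSpectrum.asIdeal).prod • (⊤ : Submodule B (M ⧸ N)) = ⊤ := by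
    intro Z
    induction Z using Multiset.induction_on with
    | empty => simp
    | cons p Z ih =>
      rw [Multiset.map_cons, Multiset.prod_cons, Submodule.mul_smul, ih]
      exact hq ⟨p.asIdeal, p.isPrime.isMaximal'⟩
  have h4 := hZ2 Z
  rw [le_bot_iff.1 hZ, Submodule.bot_smul] at h4
  rw [eq_top_iff]
  rintro x -
  rw [← Submodule.Quotient.mk_eq_zero, ← Submodule.mem_bot B, h4]
  trivial

/-- Bounded fibre dimensions over a finite algebra bound the dimension. -/
theorem finrank_le {K : Type w} [Field K] [Algebra K B] [Module.Finite K B] [Module K M] [IsScalarTower K B M]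
    (n : ℕ) (h : ∀ m : Ideal B, m.IsMaximal → Module.Finite (B ⧸ m) ((B ⧸ m) ⊗[B] M) ∧
      Module.finrank (B ⧸ m) ((B ⧸ m) ⊗[B] M) ≤ n) :
    Module.Finite K M ∧ Module.finrank K M ≤ n * Module.finrank K B := by
  have : IsArtinianRing B := IsArtinianRing.of_finite K B
  obtain ⟨v, hv⟩ := exists_gen (M := M) n h
  let f : (Fin n → B) →ₗ[K] M := (Fintype.linearCombination B v).restrictScalars K
  have hf : Function.Surjective f := by
    have : LinearMap.range (Fintype.linearCombination B v) = ⊤ := by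
      rw [Fintype.range_linearCombination, hv]
    have h2 : Function.Surjective (Fintype.linearCombination B v) := LinearMap.range_eq_top.1 this
    exact h2
  refine ⟨Module.Finite.of_surjective f hf, ?_⟩
  refine (LinearMap.finrank_le_finrank_of_surjective hf).trans ?_
  rw [Module.finrank_pi_fintype]
  simp

end K623.ArtGen
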