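import Groth.Prelude.Def_AlgSpDec

/-!
# Points of fppf sheaves: field-valued points as morphisms, fibre products

* `ofHom φ`: the field-valued point defined by a morphism `h_{Spec K} ⟶ F`;
* `mk_eq_mk_iff'`: equality in `Points F` through morphisms;
* `exists_point_of_isPullback`: `|P| → |F| ×_{|H|} |G|` is surjective for every pullback square in sheaves;
* scheme versions `exists_pt_of_isPullback`, ...
-/

universe u

open CategoryTheory CategoryTheory.Limits AlgebraicGeometry Opposite AlgSp

noncomputable section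

namespace K623.Pts

variable {S : Scheme.{u}} {F G H P : Sp S}

/-- The field-valued point defined by a morphism `h_{Spec K} ⟶ F`. -/
def ofHom {K : Type u} [Field K] {str : Spec (CommRingCat.of K) ⟶ S}
    (φ : (yon S).obj (Over.mk str) ⟶ F) : FieldPt F :=
  ⟨K, str, (J S).uliftYonedaEquiv φ⟩

@[simp] theorem toHom_ofHom {K : Type u} [Field K] {str : Spec (CommRingCat.of K) ⟶ S}
    (φ : (yon S).obj (Over.mk str) ⟶ F) : (ofHom φ).toHom = φ :=
  (J S).uliftYonedaEquiv.symm_apply_apply φ

theorem ofHom_toHom (p : FieldPt F) : ofHom p.toHom = p := by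
  unfold ofHom
  cases p
  congr 1
  exact FieldPt.uliftYonedaEquiv_toHom _

theorem map_val_iff {p q : FieldPt F} {T : Over S} (a : T ⟶ p.pt) (b : T ⟶ q.pt) :
    F.obj.map a.op p.val = F.obj.map b.op q.val ↔
      (yon S).map a ≫ p.toHom = (yon S).map b ≫ q.toHom := by
  rw [← (J S).uliftYonedaEquiv.apply_eq_iff_eq (x := (yon S).map a ≫ p.toHom)]
  rw [GrothendieckTopology.uliftYonedaEquiv_comp, GrothendieckTopology.uliftYonedaEquiv_comp,
    GrothendieckTopology.uliftYonedaEquiv_uliftYoneda_map,
    GrothendieckTopology.uliftYonedaEquiv_uliftYoneda_map, FieldPt.toHom_app, FieldPt.toHom_app]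

/-- Two field-valued points define the same point exactly when their morphisms agree over a common extension. -/
theorem mk_eq_mk_iff' {p q : FieldPt F} : Points.mk p = Points.mk q ↔
    ∃ (Ω : Type u) (_ : Field Ω) (w : Spec (CommRingCat.of Ω) ⟶ S) (a : Over.mk w ⟶ p.pt)
      (b : Over.mk w ⟶ q.pt), (yon S).map a ≫ p.toHom = (yon S).map b ≫ q.toHom := by
  rw [Points.mk_eq_mk_iff]
  simp only [← map_val_iff]
  rfl

/-- Restriction of a field-valued point along a morphism of spectra of fields does not change the point. -/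
theorem mk_ofHom_comp (p : FieldPt F) {Ω : Type u} [Field Ω] {w : Spec (CommRingCat.of Ω) ⟶ S}
    (a : Over.mk w ⟶ p.pt) : Points.mk (ofHom ((yon S).map a ≫ p.toHom)) = Points.mk p := by
  refine mk_eq_mk_iff'.2 ⟨Ω, inferInstance, w, 𝟙 (Over.mk w), a, ?_⟩
  rw [toHom_ofHom]
  exact (congrArg (· ≫ (yon S).map a ≫ p.toHom) ((yon S).map_id (Over.mk w))).trans
    (Category.id_comp _)

theorem mk_map_ofHom (f : F ⟶ G) {K : Type u} [Field K] {str : Spec (CommRingCat.of K) ⟶ S}
    (φ : (yon S).obj (Over.mk str) ⟶ F) :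
    Points.map f (Points.mk (ofHom φ)) = Points.mk (ofHom (φ ≫ f)) := by
  rw [Points.map_mk]
  rw [← ofHom_toHom ((ofHom φ).map f), FieldPt.toHom_map, toHom_ofHom]
  rfl

/-- The point defined by `h_{Spec K} ⟶ F` is `ofPt` at any point of `Spec K`. -/
theorem ofPt_eq_mk_ofHom {K : Type u} [Field K] {str : Spec (CommRingCat.of K) ⟶ S}
    (φ : (yon S).obj (Over.mk str) ⟶ F) (s : ↥(Spec (CommRingCat.of K))) :
    Points.ofPt φ s = Points.mk (ofHom φ) := by
  have := Points.ofPt_toHom (ofHom φ) s
  rwa [toHom_ofHom] at this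

/-- Naturality of `ofPt` in the scheme. -/
theorem ofPt_comp {T T' : Over S} (φ : T ⟶ T') (g : (yon S).obj T' ⟶ F) (t : ↥T.left) :
    Points.ofPt ((yon S).map φ ≫ g) t = Points.ofPt g (φ.left t) := by
  rw [← Points.map_ofPt, Points.ofPt_eq_map_ofScheme g]
  congr 1
  apply (Points.schemeEquiv T').symm.injective
  exact (Points.toScheme_ofPt φ t).trans (Points.toScheme_ofScheme T' (φ.left t)).symm

/-- Every point of `h_T` is `ofPt (𝟙 _) t`. -/
theorem exists_eq_ofScheme (T : Over S) (x : Points ((yon S).obj T)) :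
    ∃ t : ↥T.left, Points.ofScheme T t = x :=
  ⟨_, Points.ofScheme_toScheme T x⟩

theorem map_ofScheme {T : Over S} (g : (yon S).obj T ⟶ F) (t : ↥T.left) :
    Points.map g (Points.ofScheme T t) = Points.ofPt g t :=
  (Points.ofPt_eq_map_ofScheme g t).symm

theorem ofScheme_injective (T : Over S) : Function.Injective (Points.ofScheme T) :=
  (Points.schemeEquiv T).injective

theorem range_map_yon {T : Over S} (g : (yon S).obj T ⟶ F) :
    Set.range (Points.map g) = Set.range (Points.ofPt g) := by
  ext x
  constructor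
  · rintro ⟨y, rfl⟩
    obtain ⟨t, rfl⟩ := exists_eq_ofScheme T y
    exact ⟨t, (map_ofScheme g t).symm⟩
  · rintro ⟨t, rfl⟩
    exact ⟨_, map_ofScheme g t⟩

/-- A morphism from the spectrum of a field over `S` to `T` lifts every representative of the point of `F`
defined by `g` at its image: points of `F` given by `t : T` and by a field-valued point `q` agree iff there is a
common extension factoring through `T`. -/
theorem exists_of_ofPt_eq_mk {T : Over S} (g : (yon S).obj T ⟶ F) (t : ↥T.left) (q : FieldPt F)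
    (h : Points.ofPt g t = Points.mk q) :
    ∃ (Ω : Type u) (_ : Field Ω) (w : Spec (CommRingCat.of Ω) ⟶ S) (a : Over.mk w ⟶ T)
      (b : Over.mk w ⟶ q.pt), (yon S).map a ≫ g = (yon S).map b ≫ q.toHom ∧
        ∀ s : ↥(Spec (CommRingCat.of Ω)), a.left s = t := by
  obtain ⟨Ω, _, w, a, b, hab⟩ := mk_eq_mk_iff'.1 h
  rw [FieldPt.toHom_ofPt, ← Category.assoc, ← Functor.map_comp] at hab
  refine ⟨Ω, inferInstance, w, _, b, hab, fun s => ?_⟩
  rw [Over.comp_left, Scheme.Hom.comp_apply]
  exact Scheme.fromSpecResidueField_apply _ _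

/-- `|P| → |F| ×_{|H|} |G|` is surjective for a pullback square of sheaves. -/
theorem exists_point_of_isPullback {fst : P ⟶ F} {snd : P ⟶ G} {f : F ⟶ H} {g : G ⟶ H}
    (h : IsPullback fst snd f g) (x : Points F) (y : Points G)
    (hxy : Points.map f x = Points.map g y) :
    ∃ z : Points P, Points.map fst z = x ∧ Points.map snd z = y := by
  induction x using Points.ind with | h p => ?_
  induction y using Points.ind with | h q => ?_
  rw [Points.map_mk, Points.map_mk, mk_eq_mk_iff'] at hxy
  obtain ⟨Ω, _, w, a, b, hab⟩ := hxy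
  rw [FieldPt.toHom_map, FieldPt.toHom_map] at hab
  have hab : ((yon S).map (Y := p.pt) a ≫ p.toHom) ≫ f = ((yon S).map (Y := q.pt) b ≫ q.toHom) ≫ g :=
    (Category.assoc _ _ _).trans (hab.trans (Category.assoc _ _ _).symm)
  refine ⟨Points.mk (ofHom (h.lift _ _ hab)), ?_, ?_⟩
  · rw [mk_map_ofHom, h.lift_fst]
    exact mk_ofHom_comp p a
  · rw [mk_map_ofHom, h.lift_snd]
    exact mk_ofHom_comp q b

/-- Points of a represented fibre product `h_V = F ×_G h_U`. -/
theorem exists_pt_of_isPullback {U V : Over S} {fst : (yon S).obj V ⟶ F} {snd : V ⟶ U} {f : F ⟶ G}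
    {g : (yon S).obj U ⟶ G} (h : IsPullback fst ((yon S).map snd) f g) (x : Points F) (u : ↥U.left)
    (hxu : Points.map f x = Points.ofPt g u) :
    ∃ v : ↥V.left, Points.ofPt fst v = x ∧ snd.left v = u := by
  obtain ⟨z, hz1, hz2⟩ := exists_point_of_isPullback h x (Points.ofScheme U u)
    (by rw [map_ofScheme]; exact hxu)
  obtain ⟨v, rfl⟩ := exists_eq_ofScheme V z
  refine ⟨v, by rw [← hz1, map_ofScheme], ?_⟩
  apply ofScheme_injective U
  rw [← hz2, map_ofScheme]
  have := ofPt_comp snd (𝟙 ((yon S).obj U)) v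
  rw [Category.comp_id] at this
  exact this.symm

/-- Points of a represented fibre product of three schemes over a sheaf. -/
theorem exists_pt_of_isPullback' {U V W : Over S} {fst : W ⟶ U} {snd : W ⟶ V} {f : (yon S).obj U ⟶ G}
    {g : (yon S).obj V ⟶ G} (h : IsPullback ((yon S).map fst) ((yon S).map snd) f g) (u : ↥U.left)
    (v : ↥V.left) (huv : Points.ofPt f u = Points.ofPt g v) :
    ∃ w : ↥W.left, fst.left w = u ∧ snd.left w = v := by
  obtain ⟨w, hw1, hw2⟩ := exists_pt_of_isPullback h (Points.ofScheme U u) v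
    (by rw [map_ofScheme]; exact huv)
  refine ⟨w, ?_, hw2⟩
  apply ofScheme_injective U
  rw [← hw1]
  have := ofPt_comp fst (𝟙 ((yon S).obj U)) w
  rw [Category.comp_id] at this
  exact this.symm

/-- The point of `F` under a point of a represented fibre product. -/
theorem ofPt_fst_snd {U V : Over S} {fst : (yon S).obj V ⟶ F} {snd : V ⟶ U} {f : F ⟶ G}
    {g : (yon S).obj U ⟶ G} (h : fst ≫ f = (yon S).map snd ≫ g) (v : ↥V.left) :
    Points.map f (Points.ofPt fst v) = Points.ofPt g (snd.left v) := by
  rw [Points.map_ofPt, h, ofPt_comp]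

/-- The spectrum of a field is nonempty. -/
theorem exists_pt_spec (K : Type u) [Field K] : Nonempty ↥(Spec (CommRingCat.of K)) :=
  inferInstanceAs (Nonempty (PrimeSpectrum K))

/-- A representable surjective morphism is surjective on points. -/
theorem map_surjective_of_repWith {f : F ⟶ G} (hf : RepWith @Surjective f) :
    Function.Surjective (Points.map f) := by
  intro y
  induction y using Points.ind with | h q => ?_
  obtain ⟨V, snd, fst, hsq⟩ := hf.rep q.toHom
  have hs : Surjective snd.left := hf.property _ _ _ hsq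
  obtain ⟨s⟩ := exists_pt_spec q.K
  obtain ⟨v, hv⟩ := hs.surj s
  refine ⟨Points.ofPt fst v, ?_⟩
  rw [ofPt_fst_snd hsq.w, Points.ofPt_toHom]

/-- A representable morphism surjective on points is surjective in the representable sense. -/
theorem repWith_surjective_of_map_surjective {f : F ⟶ G} (hf : Representable f)
    (hs : Function.Surjective (Points.map f)) : RepWith @Surjective f := by
  refine ⟨hf, fun U V g fst snd hsq => ⟨fun u => ?_⟩⟩
  obtain ⟨x, hx⟩ := hs (Points.ofPt g u)
  obtain ⟨v, -, hv⟩ := exists_pt_of_isPullback hsq x u hx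
  exact ⟨v, hv⟩

theorem ofPt_surjective_of_repWith {U : Over S} {f : (yon S).obj U ⟶ G} (hf : RepWith @Surjective f) :
    Function.Surjective (Points.ofPt f) := by
  intro y
  have : y ∈ Set.range (Points.map f) := map_surjective_of_repWith hf y
  rw [range_map_yon] at this
  exact this

theorem repWith_surjective_of_ofPt_surjective {U : Over S} {f : (yon S).obj U ⟶ G} (hf : Representable f)
    (hs : Function.Surjective (Points.ofPt f)) : RepWith @Surjective f := by
  refine repWith_surjective_of_map_surjective hf fun y => ?_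
  obtain ⟨u, hu⟩ := hs y
  exact ⟨_, (map_ofScheme f u).trans hu⟩

/-- For a representable morphism that is open after every base change to a scheme the map on points is open
when `F = h_U`. -/
theorem isOpenMap_ofPt {U : Over S} {f : (yon S).obj U ⟶ G} (hf : Representable f)
    (ho : ∀ ⦃T V : Over S⦄ (g : (yon S).obj T ⟶ G) (fst : V ⟶ U) (snd : V ⟶ T),
      IsPullback ((yon S).map fst) ((yon S).map snd) f g → IsOpenMap snd.left) :
    IsOpenMap (Points.ofPt f) := by
  intro W hW
  rw [Points.isOpen_iff]
  intro T g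
  obtain ⟨V, snd, fst, hsq⟩ := hf g
  obtain ⟨fst, rfl⟩ := (yon S).map_surjective fst
  have : Points.ofPt g ⁻¹' (Points.ofPt f '' W) = snd.left '' (fst.left ⁻¹' W) := by
    ext t
    constructor
    · rintro ⟨u, hu, hut⟩
      obtain ⟨v, hv1, hv2⟩ := exists_pt_of_isPullback' hsq u t hut
      exact ⟨v, by rw [Set.mem_preimage, hv1]; exact hu, hv2⟩
    · rintro ⟨v, hv, rfl⟩
      refine ⟨fst.left v, hv, ?_⟩
      rw [← ofPt_comp, ← ofPt_comp, hsq.w]
  rw [this]
  exact ho g fst snd hsq _ (hW.preimage fst.left.continuous)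

/-- Etale charts are open on points. -/
theorem isOpenMap_ofPt_of_etale {U : Over S} {f : (yon S).obj U ⟶ G} (hf : RepWith @Etale f) :
    IsOpenMap (Points.ofPt f) := by
  refine isOpenMap_ofPt hf.rep fun T V g fst snd hsq => ?_
  have : Etale snd.left := hf.property _ _ _ hsq
  exact snd.left.isOpenMap

/-- Chart criterion for the topology of the space of points: the map on points of an etale surjective chart is a
quotient map. -/
theorem isOpenQuotientMap_ofPt {U : Over S} {f : (yon S).obj U ⟶ G} (hf : RepWith @Etale f)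
    (hs : RepWith @Surjective f) : IsOpenQuotientMap (Points.ofPt f) :=
  ⟨ofPt_surjective_of_repWith hs, Points.continuous_ofPt f, isOpenMap_ofPt_of_etale hf⟩

/-- Open immersions of sheaves induce open maps on points. -/
theorem isOpenMap_map_of_repWith_isOpenImmersion {f : F ⟶ G} (hf : RepWith @IsOpenImmersion f) :
    IsOpenMap (Points.map f) := by
  intro W hW
  rw [Points.isOpen_iff]
  intro T g
  obtain ⟨V, snd, fst, hsq⟩ := hf.rep g
  have hsnd : IsOpenImmersion snd.left := hf.property _ _ _ hsq
  have : Points.ofPt g ⁻¹' (Points.map f '' W) = snd.left '' (Points.ofPt fst ⁻¹' W) := by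
    ext t
    constructor
    · rintro ⟨x, hx, hxt⟩
      obtain ⟨v, hv1, hv2⟩ := exists_pt_of_isPullback hsq x t hxt
      exact ⟨v, by rw [Set.mem_preimage, hv1]; exact hx, hv2⟩
    · rintro ⟨v, hv, rfl⟩
      exact ⟨_, hv, ofPt_fst_snd hsq.w v⟩
  rw [this]
  exact snd.left.isOpenEmbedding.isOpenMap _ ((Points.continuous_ofPt fst).isOpen_preimage _ hW)

end K623.Pts
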