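import Groth.Agent.AlgSp.K623.BddQF
import Groth.Agent.AlgSp.K623.Pts

/-!
# Universally bounded fibres of maps from schemes to fppf sheaves
-/

universe u

open CategoryTheory CategoryTheory.Limits AlgebraicGeometry Opposite AlgSp

noncomputable section

namespace K623.Bdd

open K623.BddFle K623.BddComp K623.BddDesc K623.BddQF K623.Pts

variable {S : Scheme.{u}} {F G : Sp S}

/-- `FLE` of the represented base change to a field-valued point is `DegFibresLE`. -/
theorem degFibresLE_of_fle' {n : ℕ} {U : Over S} {a : (yon S).obj U ⟶ F}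
    (h : ∀ (q : FieldPt F) (T : Over S) (c : T ⟶ q.pt) (snd : T ⟶ U),
      IsPullback ((yon S).map snd) ((yon S).map c) a q.toHom → FLE n c.left) : W4dec.DegFibresLE n a := by
  refine degFibresLE_of_fle fun q T c snd hsq => ?_
  obtain ⟨snd, rfl⟩ := (yon S).map_surjective snd
  exact h q T c snd hsq.flip

theorem degFibresLE_comp {n m : ℕ} {U V : Over S} {f : V ⟶ U} {g : (yon S).obj U ⟶ F}
    (hrep : Representable g) (hf : W4dec.DegFibresLE n ((yon S).map f)) (hg : W4dec.DegFibresLE m g) :
    W4dec.DegFibresLE (n * m) ((yon S).map f ≫ g) := by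
  refine degFibresLE_of_fle' fun q T c snd hsq => ?_
  obtain ⟨T1, c1, fst1, h1⟩ := hrep q.toHom
  obtain ⟨fst1, rfl⟩ := (yon S).map_surjective fst1
  have hw : ((yon S).map snd ≫ (yon S).map f) ≫ g = (yon S).map c ≫ q.toHom := by
    rw [Category.assoc]; exact hsq.w
  obtain ⟨t, ht⟩ := (yon S).map_surjective (h1.lift _ _ hw)
  have e1 : (yon S).map t ≫ (yon S).map fst1 = (yon S).map snd ≫ (yon S).map f := by
    rw [ht, h1.lift_fst]
  have e2 : (yon S).map t ≫ (yon S).map c1 = (yon S).map c := by
    rw [ht, h1.lift_snd]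
  have e3 : t ≫ c1 = c := (yon S).map_injective (by rw [Functor.map_comp, e2])
  have h2 : IsPullback ((yon S).map snd) ((yon S).map t) ((yon S).map f) ((yon S).map fst1) := by
    refine IsPullback.of_bot ?_ e1.symm h1
    rw [e2]
    exact hsq
  have h3 : FLE n t.left := fle_of_degFibresLE hf h2
  have h4 : FLE m c1.left := fle_of_degFibresLE hg h1
  have h5 := fle_comp h3 h4
  rw [← Over.comp_left, e3] at h5
  exact h5

theorem hasUnivBddFibres_comp {U V : Over S} {f : V ⟶ U} {g : (yon S).obj U ⟶ F}
    (hrep : Representable g) (hf : W4dec.HasUnivBddFibres ((yon S).map f))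
    (hg : W4dec.HasUnivBddFibres g) : W4dec.HasUnivBddFibres ((yon S).map f ≫ g) := by
  obtain ⟨n, hn⟩ := hf
  obtain ⟨m, hm⟩ := hg
  exact ⟨_, degFibresLE_comp hrep hn hm⟩

theorem degFibresLE_baseChange {n : ℕ} {U V : Over S} {p : G ⟶ F} {g : (yon S).obj U ⟶ F}
    (hg : W4dec.DegFibresLE n g) {fst : (yon S).obj V ⟶ (yon S).obj U} {snd : (yon S).obj V ⟶ G}
    (h : IsPullback fst snd g p) : W4dec.DegFibresLE n snd := by
  intro q T c r hsq
  exact DegFibresLE.apply hg (q.toHom ≫ p) c (r ≫ fst) (hsq.paste_vert h.flip)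

theorem degFibresLE_of_flat_surjective {n : ℕ} {U V : Over S} (f : U ⟶ V) [Surjective f.left]
    [Flat f.left] {h : (yon S).obj V ⟶ F} (hg : W4dec.DegFibresLE n ((yon S).map f ≫ h)) :
    W4dec.DegFibresLE n h := by
  refine degFibresLE_of_fle' fun q T c snd hsq => ?_
  let W := pullback snd f
  have h1 : IsPullback ((yon S).map (pullback.fst snd f)) ((yon S).map (pullback.snd snd f))
      ((yon S).map snd) ((yon S).map f) := (IsPullback.of_hasPullback snd f).map (yon S)
  have h2 : IsPullback (pullback.fst snd f).left (pullback.snd snd f).left snd.left f.left :=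
    isPullback_left h1
  have hfl : Flat (pullback.fst snd f).left := MorphismProperty.of_isPullback h2.flip ‹_›
  have hs : Surjective (pullback.fst snd f).left := MorphismProperty.of_isPullback h2.flip ‹_›
  have h3 := h1.flip.paste_vert hsq
  rw [← Functor.map_comp] at h3
  have h4 : FLE n (pullback.fst snd f ≫ c).left := fle_of_degFibresLE hg h3
  rw [Over.comp_left] at h4
  exact fle_of_flat_surjective _ _ h4

/-- The bound on the number of points in the fibres. -/
theorem encard_fibre_le {n : ℕ} {U : Over S} {φ : (yon S).obj U ⟶ F} (hrep : Representable φ)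
    (hφ : W4dec.DegFibresLE n φ) (x : Points F) : (Points.ofPt φ ⁻¹' {x}).encard ≤ n := by
  induction x using Points.ind with | h q => ?_
  obtain ⟨T, c, fst, hsq⟩ := hrep q.toHom
  obtain ⟨fst, rfl⟩ := (yon S).map_surjective fst
  have h1 : FLE n c.left := fle_of_degFibresLE hφ hsq
  obtain ⟨h2, h3⟩ := fle_iff_of_field _ |>.1 h1
  obtain ⟨hfin, hcard⟩ := BddDesc.card_le c.left h2 h3
  have hsub : Points.ofPt φ ⁻¹' {Points.mk q} ⊆ Set.range fst.left := by
    intro u hu
    obtain ⟨s⟩ := exists_pt_spec q.K
    have hu' : Points.ofPt φ u = Points.ofPt q.toHom s := by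
      rw [Points.ofPt_toHom]; exact hu
    obtain ⟨t, ht, -⟩ := exists_pt_of_isPullback' hsq u s hu'
    exact ⟨t, ht⟩
  calc (Points.ofPt φ ⁻¹' {Points.mk q}).encard ≤ (Set.range fst.left).encard := Set.encard_le_encard hsub
    _ ≤ ENat.card ↥T.left := by
        rw [← Set.image_univ]
        exact (Set.encard_image_le _ _).trans (by rw [Set.encard_univ])
    _ ≤ n := by
        have := Fintype.ofFinite ↥T.left
        rw [ENat.card_eq_coe_natCard]
        exact_mod_cast hcard

/-- Descent along a representable map whose image contains the image of the chart. -/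
theorem degFibresLE_of_baseChange {n : ℕ} {U V : Over S} {g : G ⟶ F} {f : (yon S).obj U ⟶ F}
    {fst : (yon S).obj V ⟶ (yon S).obj U} {f' : (yon S).obj V ⟶ G} (h : IsPullback fst f' f g)
    (him : Set.range (Points.ofPt f) ⊆ Set.range (Points.map g)) (hf' : W4dec.DegFibresLE n f') :
    W4dec.DegFibresLE n f := by
  refine degFibresLE_of_fle' fun q T c snd hsq => ?_
  rcases isEmpty_or_nonempty ↥T.left with hT | ⟨⟨t⟩⟩
  · rw [fle_iff_of_field]
    exact finite_of_isEmpty c.left
  · -- the point defined by `q` is in the image of `G`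
    have hq : Points.ofPt f (snd.left t) = Points.mk q := by
      rw [← Points.ofPt_toHom q (c.left t), ← ofPt_comp, ← ofPt_comp, hsq.w]
    obtain ⟨y, hy⟩ := him ⟨_, hq⟩
    induction y using Points.ind with | h r => ?_
    rw [Points.map_mk, mk_eq_mk_iff'] at hy
    obtain ⟨Ω, _, w, a, b, hab⟩ := hy
    rw [FieldPt.toHom_map] at hab
    have hab : ((yon S).map (Y := r.pt) a ≫ r.toHom) ≫ g = (yon S).map (Y := q.pt) b ≫ q.toHom :=
      (Category.assoc _ _ _).trans hab
    let b' : Over.mk w ⟶ q.pt := b
    -- base change of `T` to `Spec Ω`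
    have h1 : IsPullback ((yon S).map (pullback.fst c b')) ((yon S).map (pullback.snd c b'))
      ((yon S).map c) ((yon S).map b') := (IsPullback.of_hasPullback c b').map (yon S)
    have h2 : IsPullback (pullback.fst c b').left (pullback.snd c b').left c.left b'.left :=
      isPullback_left h1
    have h3 := h1.paste_horiz hsq
    rw [show (yon S).map b' ≫ q.toHom = ((yon S).map (Y := r.pt) a ≫ r.toHom) ≫ g from hab.symm] at h3
    have h4 : ((yon S).map (pullback.fst c b') ≫ (yon S).map snd) ≫ f =
        ((yon S).map (pullback.snd c b') ≫ ((yon S).map (Y := r.pt) a ≫ r.toHom)) ≫ g := by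
      exact h3.w.trans (Category.assoc _ _ _).symm
    have h5 : IsPullback (h.lift _ _ h4) ((yon S).map (pullback.snd c b')) f'
        ((yon S).map (Y := r.pt) a ≫ r.toHom) := by
      refine IsPullback.of_right ?_ (h.lift_snd _ _ h4) h
      rw [h.lift_fst]
      exact h3
    have h6 : FLE n (pullback.snd c b').left := fle_of_degFibresLE hf' h5
    have hsurj : Surjective b'.left := ⟨fun s => by
      obtain ⟨s'⟩ := exists_pt_spec Ω
      exact ⟨s', Subsingleton.elim (α := PrimeSpectrum q.K) _ _⟩⟩
    exact fle_of_isPullback_of_surjective h2 h6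

end K623.Bdd
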