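import Groth.Agent.AlgSp.K623.Bdd
import Mathlib.AlgebraicGeometry.Morphisms.Etale
import Mathlib.AlgebraicGeometry.Morphisms.QuasiFinite
import Mathlib.RingTheory.Unramified.LocalStructure

/-!
# Universally bounded fibres: etale covers
-/

universe u

open CategoryTheory CategoryTheory.Limits AlgebraicGeometry Opposite AlgSp

noncomputable section

namespace K623.Bdd2

open K623.BddFle K623.BddComp K623.BddDesc K623.BddQF K623.Pts K623.Bdd

variable {S : Scheme.{u}} {F G : Sp S}

/-- Etale morphisms are locally quasi-finite. -/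
theorem locallyQuasiFinite_of_etale {X Y : Scheme.{u}} (f : X ⟶ Y) [Etale f] : LocallyQuasiFinite f where
  quasiFinite_appLE {U} hU {V} hV e := by
    have h := HasRingHomProperty.appLE @Etale f ‹_› ⟨U, hU⟩ ⟨V, hV⟩ e
    algebraize [(f.appLE U V e).hom]
    change Algebra.QuasiFinite Γ(Y, U) Γ(X, V)
    infer_instance

theorem degFibresLE_of_flat_cover {V : Over S} (h : (yon S).obj V ⟶ F) {κ : Type*} [Fintype κ]
    (W : κ → Over S) (f : ∀ k, W k ⟶ V) (hfl : ∀ k, Flat (f k).left)
    (hs : ∀ v : V.left, ∃ (k : κ) (w : (W k).left), (f k).left w = v) (n : κ → ℕ)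
    (hg : ∀ k, W4dec.DegFibresLE (n k) ((yon S).map (f k) ≫ h)) :
    W4dec.DegFibresLE (∑ k, n k) h := by
  refine degFibresLE_of_fle' fun q T c snd hsq => ?_
  have h1 : ∀ k, IsPullback ((yon S).map (pullback.fst snd (f k))) ((yon S).map (pullback.snd snd (f k)))
      ((yon S).map snd) ((yon S).map (f k)) := fun k => (IsPullback.of_hasPullback snd (f k)).map (yon S)
  have h2 : ∀ k, IsPullback (pullback.fst snd (f k)).left (pullback.snd snd (f k)).left snd.left (f k).left :=
    fun k => isPullback_left (h1 k)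
  have hfl' : ∀ k, Flat (pullback.fst snd (f k)).left := fun k =>
    MorphismProperty.of_isPullback (h2 k).flip (hfl k)
  refine fle_of_flat_cover c.left (fun k => (pullback snd (f k)).left)
    (fun k => (pullback.fst snd (f k)).left) (fun t => ?_) n (fun k => ?_)
  · obtain ⟨k, w, hw⟩ := hs (snd.left t)
    obtain ⟨z, hz, -⟩ := Scheme.exists_preimage_of_isPullback (h2 k) t w hw.symm
    exact ⟨k, z, hz⟩
  · have h3 := (h1 k).flip.paste_vert hsq
    rw [← Functor.map_comp] at h3
    exact fle_of_degFibresLE (hg k) h3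

/-- If `X` has a cover by etale maps from schemes with universally bounded fibres then every etale map from a
quasi-compact scheme has universally bounded fibres. -/
theorem hasUnivBddFibres_of_cover {ι : Type*} (U : ι → Over S) (φ : ∀ i, (yon S).obj (U i) ⟶ F)
    (hφ : ∀ i, RepWith @Etale (φ i))
    (hsurj : ∀ x : Points F, ∃ (i : ι) (v : ↥(U i).left), Points.ofPt (φ i) v = x)
    (hb : ∀ i, W4dec.HasUnivBddFibres (φ i)) {V : Over S} [CompactSpace V.left] (ψ : (yon S).obj V ⟶ F)
    (hψ : RepWith @Etale ψ) : W4dec.HasUnivBddFibres ψ := by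
  have key : ∀ v : V.left, ∃ (W : Over S) (f : W ⟶ V) (w : W.left) (n : ℕ), Etale f.left ∧ f.left w = v ∧
      W4dec.DegFibresLE n ((yon S).map f ≫ ψ) := by
    intro v
    obtain ⟨i, u, hu⟩ := hsurj (Points.ofPt ψ v)
    obtain ⟨W, snd, fst, hsq⟩ := (hφ i).rep ψ
    obtain ⟨fst, rfl⟩ := (yon S).map_surjective fst
    have h1 : Etale snd.left := (hφ i).property _ _ _ hsq
    have h2 : Etale fst.left := hψ.property _ _ _ hsq.flip
    obtain ⟨w, hw1, hw2⟩ := exists_pt_of_isPullback' hsq u v hu
    obtain ⟨_, ⟨W', hW', rfl⟩, hwW', -⟩ := W.left.isBasis_affineOpens.exists_subset_of_mem_open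
      (Set.mem_univ w) isOpen_univ
    let W' : W.left.Opens := W'
    have haff : IsAffine W'.toScheme := hW'
    let W1 : Over S := Over.mk (W'.ι ≫ W.hom)
    let j : W1 ⟶ W := Over.homMk W'.ι rfl
    have h3 : Etale (j ≫ fst).left := by
      change Etale (W'.ι ≫ fst.left)
      infer_instance
    have h4 : CompactSpace W1.left := inferInstanceAs (CompactSpace W'.toScheme)
    have h5 : LocallyQuasiFinite (j ≫ fst).left := locallyQuasiFinite_of_etale _
    obtain ⟨n, hn⟩ := exists_fle_of_compactSpace (j ≫ fst).left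
    obtain ⟨m, hm⟩ := hb i
    have h5 := degFibresLE_comp (hφ i).rep ((degFibresLE_yon_iff _).2 hn) hm
    refine ⟨W1, j ≫ snd, ⟨w, hwW'⟩, n * m, ?_, ?_, ?_⟩
    · change Etale (W'.ι ≫ snd.left)
      infer_instance
    · rw [← hw2]
      rfl
    · rw [Functor.map_comp, Category.assoc, ← hsq.w, ← Category.assoc, ← Functor.map_comp]
      exact h5
  choose W f w n hf hw hn using key
  obtain ⟨t, ht⟩ := CompactSpace.elim_nhds_subcover (fun v => Set.range (f v).left) (fun v =>
    (f v).left.isOpenMap.isOpen_range.mem_nhds ⟨w v, hw v⟩)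
  refine ⟨∑ v : t, n v, degFibresLE_of_flat_cover ψ (fun v : t => W v) (fun v => f v)
    (fun v => inferInstance) (fun v => ?_) (fun v => n v) (fun v => hn v)⟩
  have hv : v ∈ ⋃ x ∈ t, Set.range (f x).left := by rw [ht]; trivial
  simp only [Set.mem_iUnion] at hv
  obtain ⟨x, hxt, z, hz⟩ := hv
  exact ⟨⟨x, hxt⟩, z, hz⟩

end K623.Bdd2
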