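import Groth.Agent.AlgSp.K623.BddQF
import Mathlib.AlgebraicGeometry.Fiber

/-!
# `FLE` against `BddFib.FibreDegLE`; the statements on fibre degrees of morphisms of schemes
-/

universe u

open CategoryTheory CategoryTheory.Limits AlgebraicGeometry

namespace K623.BddBase

open K623.BddBridge K623.BddFle K623.BddCover K623.BddComp K623.BddDesc K623.BddQF

/-- A morphism `Spec K ⟶ Y` factors through the residue field of its image. -/
theorem exists_factor_residueField {K : Type u} [Field K] {Y : Scheme.{u}} (g : Spec (CommRingCat.of K) ⟶ Y) :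
    ∃ (y : Y) (a : Spec (CommRingCat.of K) ⟶ Spec (Y.residueField y)),
      a ≫ Y.fromSpecResidueField y = g := by
  have := Scheme.descResidueField_stalkClosedPointTo_fromSpecResidueField K Y g
  exact ⟨_, _, this⟩

theorem fle_iff_fibreDegLE {n : ℕ} {X Y : Scheme.{u}} (f : X ⟶ Y) : FLE n f ↔ BddFib.FibreDegLE f n := by
  constructor
  · intro h y
    have h1 : IsPullback (pullback.fst f (Y.fromSpecResidueField y)) (f.fiberToSpecResidueField y) f
        (Y.fromSpecResidueField y) := IsPullback.of_hasPullback _ _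
    exact (finiteOfDegLE_iff (K := Y.residueField y) (f.fiberToSpecResidueField y) n).2
      (h (K := Y.residueField y) _ _ _ h1)
  · intro h K _ g T fst snd hT
    obtain ⟨y, a, rfl⟩ := exists_factor_residueField g
    have h1 : IsPullback (pullback.fst f (Y.fromSpecResidueField y)) (f.fiberToSpecResidueField y) f
        (Y.fromSpecResidueField y) := IsPullback.of_hasPullback _ _
    obtain ⟨h2, h3⟩ := (finiteOfDegLE_iff (K := Y.residueField y) (f.fiberToSpecResidueField y) n).1 (h y)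
    have h4 : FLE n (f.fiberToSpecResidueField y) :=
      fle_of_isFinite (K := Y.residueField y) (f.fiberToSpecResidueField y) h2 h3
    have h5 : IsPullback (h1.lift fst (snd ≫ a) (by rw [hT.w, Category.assoc])) snd
        (f.fiberToSpecResidueField y) a := by
      refine IsPullback.of_right ?_ (h1.lift_snd _ _ _) h1
      rw [h1.lift_fst]
      exact hT
    exact h4 a _ _ h5

/-- S7433 -/
theorem fibreDegLE_iff {X Y : Scheme.{u}} (f : X ⟶ Y) (n : ℕ) :
    BddFib.FibreDegLE f n ↔ ∀ (k : Type u) [Field k] (g : Spec (CommRingCat.of k) ⟶ Y),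
      BddFib.FiniteOfDegLE (CommRingCat.of k) (Limits.pullback.snd f g) n := by
  rw [← fle_iff_fibreDegLE]
  constructor
  · intro h k _ g
    exact (finiteOfDegLE_iff _ _).2 (h g _ _ (IsPullback.of_hasPullback f g))
  · intro h
    exact fle_of_exists f fun K _ g => ⟨_, _, _, IsPullback.of_hasPullback f g,
      (finiteOfDegLE_iff _ _).1 (h K g)⟩

/-- S7434 -/
theorem natCard_pullback_le {X Y : Scheme.{u}} (f : X ⟶ Y) (n : ℕ) (hf : BddFib.FibreDegLE f n)
    (k : Type u) [Field k] (g : Spec (CommRingCat.of k) ⟶ Y) :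
    Finite ↥(Limits.pullback f g) ∧ Nat.card ↥(Limits.pullback f g) ≤ n := by
  obtain ⟨h1, h2⟩ := (fle_iff_fibreDegLE f).2 hf g _ _ (IsPullback.of_hasPullback f g)
  exact BddDesc.card_le (pullback.snd f g) h1 h2

/-- S7436 -/
theorem fibreDegLE_comp {X Y Z : Scheme.{u}} (f : X ⟶ Y) (g : Y ⟶ Z) (n m : ℕ)
    (hf : BddFib.FibreDegLE f n) (hg : BddFib.FibreDegLE g m) : BddFib.FibreDegLE (f ≫ g) (n * m) :=
  (fle_iff_fibreDegLE _).1 (BddComp.fle_comp ((fle_iff_fibreDegLE _).2 hf) ((fle_iff_fibreDegLE _).2 hg))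

/-- S7437 -/
theorem fibreDegLE_of_isPullback {X Y X' Y' : Scheme.{u}} (f : X ⟶ Y) (g : Y' ⟶ Y) (f' : X' ⟶ Y')
    (g' : X' ⟶ X) (h : IsPullback g' f' f g) (n : ℕ) (hf : BddFib.FibreDegLE f n) :
    BddFib.FibreDegLE f' n :=
  (fle_iff_fibreDegLE _).1 (fle_of_isPullback h ((fle_iff_fibreDegLE _).2 hf))

/-- S7438 -/
theorem fibreDegLE_of_isPullback_of_surjective {X Y X' Y' : Scheme.{u}} (f : X ⟶ Y) (g : Y' ⟶ Y)
    [Surjective g] (f' : X' ⟶ Y') (g' : X' ⟶ X) (h : IsPullback g' f' f g) (n : ℕ)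
    (hf' : BddFib.FibreDegLE f' n) : BddFib.FibreDegLE f n :=
  (fle_iff_fibreDegLE _).1 (BddDesc.fle_of_isPullback_of_surjective h ((fle_iff_fibreDegLE _).2 hf'))

/-- S7441 -/
theorem univBounded_of_compactSpace {X Y : Scheme.{u}} (f : X ⟶ Y) [LocallyQuasiFinite f]
    [LocallyOfFiniteType f] [CompactSpace X] : BddFib.UnivBounded f := by
  obtain ⟨n, hn⟩ := exists_fle_of_compactSpace f
  exact ⟨n, (fle_iff_fibreDegLE _).1 hn⟩

/-- S7442 -/
theorem fibreDegLE_of_flat_surjective_triangle {X Y Z : Scheme.{u}} (f : X ⟶ Y) (h : Y ⟶ Z) [Flat f]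
    [Surjective f] (n : ℕ) (hg : BddFib.FibreDegLE (f ≫ h) n) : BddFib.FibreDegLE h n :=
  (fle_iff_fibreDegLE _).1 (BddDesc.fle_of_flat_surjective f h ((fle_iff_fibreDegLE _).2 hg))

end K623.BddBase
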