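import Groth.Prelude.Def_W4stkschemesremainderFib
import Mathlib.AlgebraicGeometry.Morphisms.FlatRank
import Mathlib.RingTheory.Flat.FaithfullyFlat.Basic

/-!
# Finite schemes over a field: `BddFib.FiniteOfDegLE` against `Scheme.Hom.finrank`
-/

universe u

open CategoryTheory CategoryTheory.Limits AlgebraicGeometry

namespace K623.BddBridge

/-- The structure morphism of an affine scheme over `Spec K` through its ring of sections. -/
theorem eq_isoSpec_comp {K : CommRingCat.{u}} {T : Scheme.{u}} [IsAffine T] (p : T ⟶ Spec K) :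
    p = T.isoSpec.hom ≫ Spec.map ((Scheme.ΓSpecIso K).inv ≫ p.appTop) := by
  rw [Spec.map_comp, ← Category.assoc, Scheme.isoSpec_hom_naturality, Category.assoc,
    Scheme.isoSpec_Spec_hom, ← Spec.map_comp, Iso.inv_hom_id, Spec.map_id, Category.comp_id]

instance flat_spec_field {K : Type u} [Field K] {T : Scheme.{u}} (p : T ⟶ Spec (CommRingCat.of K)) : Flat p := by
  infer_instance

theorem finiteOfDegLE_iff {K : Type u} [Field K] {T : Scheme.{u}} (p : T ⟶ Spec (CommRingCat.of K)) (n : ℕ) :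
    BddFib.FiniteOfDegLE (CommRingCat.of K) p n ↔ IsFinite p ∧ ∀ s, p.finrank s ≤ n := by
  let _ : Algebra K Γ(T, ⊤) := BddFib.secAlgebra (CommRingCat.of K) p
  have hdef : BddFib.FiniteOfDegLE (CommRingCat.of K) p n ↔
      IsAffine T ∧ Module.Finite K Γ(T, ⊤) ∧ Module.finrank K Γ(T, ⊤) ≤ n := Iff.rfl
  have key : ∀ [IsAffine T], (Module.Finite K Γ(T, ⊤) ↔ IsFinite p) := by
    intro _
    have h1 : IsFinite p ↔ IsFinite (Spec.map ((Scheme.ΓSpecIso (CommRingCat.of K)).inv ≫ p.appTop)) := by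
      conv_lhs => rw [eq_isoSpec_comp p]
      exact MorphismProperty.cancel_left_of_respectsIso @IsFinite _ _
    rw [h1, IsFinite.SpecMap_iff]
    rfl
  have key2 : ∀ [IsAffine T] [IsFinite p] (s), p.finrank s = Module.finrank K Γ(T, ⊤) := by
    intro _ _ s
    have hfin : Module.Finite K Γ(T, ⊤) := key.2 inferInstance
    conv_lhs => rw [eq_isoSpec_comp p]
    have hfin' : IsFinite (Spec.map ((Scheme.ΓSpecIso (CommRingCat.of K)).inv ≫ p.appTop)) := by
      rw [IsFinite.SpecMap_iff]; exact hfin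
    rw [Scheme.Hom.finrank_comp_left_of_isIso]
    have := Scheme.Hom.finrank_SpecMap_algebraMap K Γ(T, ⊤) s
    rw [Module.rankAtStalk_eq_finrank_of_free] at this
    exact this
  constructor
  · intro h
    obtain ⟨h1, h2, h3⟩ := hdef.1 h
    have := key.1 h2
    exact ⟨this, fun s => (key2 s).trans_le h3⟩
  · rintro ⟨h1, h2⟩
    have : IsAffine T := isAffine_of_isAffineHom p
    have hne : Nonempty ↥(Spec (CommRingCat.of K)) := inferInstanceAs (Nonempty (PrimeSpectrum K))
    obtain ⟨s⟩ := hne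
    exact hdef.2 ⟨this, key.2 h1, (key2 s).symm.trans_le (h2 s)⟩

end K623.BddBridge
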