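import Groth.Agent.AlgSp.K623.BddBridge
import Mathlib.AlgebraicGeometry.Morphisms.QuasiFinite
import Mathlib.AlgebraicGeometry.Artinian
import Mathlib.AlgebraicGeometry.Limits
import Mathlib.RingTheory.Flat.EquationalCriterion

/-!
# Schemes over a field covered by finite schemes

If `w_i : W_i ⟶ T` is a finite jointly surjective family of flat morphisms and each `W_i` is finite over
the field `K` of degree `≤ n_i`, then `T` is finite over `K` of degree `≤ ∑ n_i`.
-/

universe u

open CategoryTheory CategoryTheory.Limits AlgebraicGeometry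

namespace K623.BddCover

open K623.BddBridge

variable {K : Type u} [Field K]

theorem finite_of_isFinite {W : Scheme.{u}} (c : W ⟶ Spec (CommRingCat.of K)) [IsFinite c] : Finite W := by
  obtain ⟨s⟩ : Nonempty ↥(Spec (CommRingCat.of K)) := inferInstanceAs (Nonempty (PrimeSpectrum K))
  have h : (c ⁻¹' {s}).Finite := c.finite_preimage_singleton s
  have h2 : c ⁻¹' {s} = Set.univ := by
    ext x
    simp only [Set.mem_preimage, Set.mem_singleton_iff, Set.mem_univ, iff_true]
    exact Subsingleton.elim (α := PrimeSpectrum K) _ _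
  rw [h2] at h
  exact Set.finite_univ_iff.1 h

theorem discrete_of_isFinite {W : Scheme.{u}} (c : W ⟶ Spec (CommRingCat.of K)) [IsFinite c] :
    DiscreteTopology W := by
  let s : ↥(Spec (CommRingCat.of K)) := (⊥ : PrimeSpectrum K)
  have h1 : _root_.IsDiscrete (c ⁻¹' {s}) := c.isDiscrete_preimage_singleton s
  have h2 : c ⁻¹' {s} = Set.univ := by
    ext x
    simp only [Set.mem_preimage, Set.mem_univ, iff_true]
    exact Subsingleton.elim (α := PrimeSpectrum K) _ _
  rw [h2] at h1
  exact isDiscrete_univ_iff.1 h1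

/-- A scheme over a field covered by the images of finitely many finite schemes is finite and discrete. -/
theorem finite_discrete {T : Scheme.{u}} (p : T ⟶ Spec (CommRingCat.of K)) {ι : Type*} [Finite ι]
    (W : ι → Scheme.{u}) (w : ∀ i, W i ⟶ T) (hw : ∀ i, IsFinite (w i ≫ p))
    (hs : ∀ t : T, ∃ (i : ι) (x : W i), w i x = t) : Finite T ∧ DiscreteTopology T := by
  have hfin : Finite T := by
    have h1 : ∀ i, Finite (W i) := fun i => finite_of_isFinite (w i ≫ p)
    refine Finite.of_surjective (fun x : Σ i, W i => w x.1 x.2) fun t => ?_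
    obtain ⟨i, x, hx⟩ := hs t
    exact ⟨⟨i, x⟩, hx⟩
  refine ⟨hfin, ?_⟩
  have : T1Space T := by
    rw [t1Space_iff_specializes_imp_eq]
    intro t t' h
    obtain ⟨i, x, rfl⟩ := hs t
    -- an affine open neighbourhood of `t'`
    obtain ⟨_, ⟨U, hU, rfl⟩, hxU, -⟩ := T.isBasis_affineOpens.exists_subset_of_mem_open
      (Set.mem_univ t') isOpen_univ
    let U : T.Opens := U
    have hU' : IsAffine U.toScheme := hU
    have hmem : w i x ∈ U := h.mem_open U.2 hxU
    have hdisc : DiscreteTopology (W i) := discrete_of_isFinite (w i ≫ p)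
    have hfin' : Finite (W i) := finite_of_isFinite (w i ≫ p)
    -- the preimage of `U` in `W i` is open and closed
    let V : (W i).Opens := w i ⁻¹ᵁ U
    have hcl : IsClosedImmersion V.ι := .of_isPreimmersion _ (isClosed_discrete _)
    have hVf : IsFinite ((w i ∣_ U) ≫ U.ι ≫ p) := by
      rw [morphismRestrict_ι_assoc]
      infer_instance
    have hf : IsFinite (w i ∣_ U) := IsFinite.of_comp (w i ∣_ U) (U.ι ≫ p)
    have hxV : x ∈ V := hmem
    have hdV : DiscreteTopology V := V.ι.isOpenEmbedding.discreteTopology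
    let x' : V.toScheme := ⟨x, hxV⟩
    have hcl2 : IsClosed {(w i ∣_ U) x'} := by
      rw [← Set.image_singleton]
      exact (w i ∣_ U).isClosedMap _ (isClosed_discrete _)
    have h3 : ((w i ∣_ U) x') ⤳ (⟨t', hxU⟩ : U) := by
      rw [← U.ι.isOpenEmbedding.isInducing.specializes_iff]
      rw [← Scheme.Hom.comp_apply, morphismRestrict_ι]
      exact h
    have h4 := h3.mem_closed hcl2 rfl
    have h5 := congrArg U.ι h4
    rw [← Scheme.Hom.comp_apply, morphismRestrict_ι] at h5
    exact h5.symm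
  infer_instance


/-- An element killed by a flat ring map is annihilated by elements generating the unit ideal of the target. -/
theorem exists_annihilating {D C : Type*} [CommRing D] [CommRing C] (φ : D →+* C) (hφ : φ.Flat) (d : D)
    (hd : φ d = 0) : ∃ (k : ℕ) (a : Fin k → D) (y : Fin k → C), 1 = ∑ j, φ (a j) * y j ∧
      ∀ j, d * a j = 0 := by
  algebraize [φ]
  have h1 : ∑ i : Fin 1, (fun _ => d) i • (fun _ => (1 : C)) i = 0 := by
    simp [Algebra.smul_def, RingHom.algebraMap_toAlgebra, hd]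
  obtain ⟨k, a, y, h2, h3⟩ := Module.Flat.isTrivialRelation_of_sum_smul_eq_zero h1
  refine ⟨k, a 0, y, ?_, fun j => ?_⟩
  · have := h2 0
    simpa [Algebra.smul_def, RingHom.algebraMap_toAlgebra] using this
  · have := h3 j
    simpa using this

/-- The map to the product of a jointly surjective family of flat algebras is injective. -/
theorem eq_zero_of_flat_cover {D : Type*} [CommRing D] {ι : Type*} (C : ι → Type*) [∀ i, CommRing (C i)]
    (φ : ∀ i, D →+* C i) (hφ : ∀ i, (φ i).Flat)
    (hs : ∀ q : PrimeSpectrum D, ∃ (i : ι) (q' : PrimeSpectrum (C i)), PrimeSpectrum.comap (φ i) q' = q)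
    (d : D) (hd : ∀ i, φ i d = 0) : d = 0 := by
  by_contra hne
  have h1 : Ideal.span {d} ≠ ⊥ := by simpa using hne
  have h2 : (Ideal.span {d}).annihilator ≠ ⊤ := by
    intro h
    exact h1 (Submodule.annihilator_eq_top_iff.1 h)
  obtain ⟨m, hm, hle⟩ := Ideal.exists_le_maximal _ h2
  obtain ⟨i, q', hq'⟩ := hs ⟨m, hm.isPrime⟩
  obtain ⟨k, a, y, h3, h4⟩ := exists_annihilating (φ i) (hφ i) d (hd i)
  refine (Ideal.ne_top_iff_one _).1 q'.isPrime.ne_top ?_
  rw [h3]
  refine Ideal.sum_mem _ fun j _ => Ideal.mul_mem_right _ _ ?_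
  have h5 : a j ∈ m := by
    apply hle
    rw [Submodule.mem_annihilator_span_singleton, smul_eq_mul, mul_comm]
    exact h4 j
  have h6 : a j ∈ (PrimeSpectrum.comap (φ i) q').asIdeal := by rw [hq']; exact h5
  exact h6

/-- A scheme over a field `K` covered by finitely many flat finite schemes of degrees `≤ n_i` is finite of degree
`≤ ∑ n_i`. -/
theorem finite_of_cover {T : Scheme.{u}} (p : T ⟶ Spec (CommRingCat.of K)) {ι : Type*} [Fintype ι]
    (W : ι → Scheme.{u}) (w : ∀ i, W i ⟶ T) [∀ i, Flat (w i)] (n : ι → ℕ)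
    (hw : ∀ i, IsFinite (w i ≫ p) ∧ ∀ s, (w i ≫ p).finrank s ≤ n i)
    (hs : ∀ t : T, ∃ (i : ι) (x : W i), w i x = t) :
    IsFinite p ∧ ∀ s, p.finrank s ≤ ∑ i, n i := by
  obtain ⟨hfin, hdisc⟩ := finite_discrete p W w (fun i => (hw i).1) hs
  have haff : IsAffine T := inferInstance
  have hWaff : ∀ i, IsAffine (W i) := fun i =>
    have := (hw i).1
    isAffine_of_isAffineHom (w i ≫ p)
  rw [← finiteOfDegLE_iff]
  let _ : Algebra K Γ(T, ⊤) := BddFib.secAlgebra (CommRingCat.of K) p
  let _ : ∀ i, Algebra K Γ(W i, ⊤) := fun i => BddFib.secAlgebra (CommRingCat.of K) (w i ≫ p)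
  have hW : ∀ i, Module.Finite K Γ(W i, ⊤) ∧ Module.finrank K Γ(W i, ⊤) ≤ n i := fun i => by
    have := (finiteOfDegLE_iff (w i ≫ p) (n i)).2 (hw i)
    exact this.2
  let φ : ∀ i, Γ(T, ⊤) →ₐ[K] Γ(W i, ⊤) := fun i =>
    { (w i).appTop.hom with
      commutes' := fun r => by
        change (w i).appTop.hom (((Scheme.ΓSpecIso (CommRingCat.of K)).inv ≫ p.appTop).hom r) =
          ((Scheme.ΓSpecIso (CommRingCat.of K)).inv ≫ (w i ≫ p).appTop).hom r
        rw [Scheme.Hom.comp_appTop]
        rfl }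
  let Φ : Γ(T, ⊤) →ₗ[K] ∀ i, Γ(W i, ⊤) := LinearMap.pi fun i => (φ i).toLinearMap
  have hΦ : Function.Injective Φ := by
    rw [injective_iff_map_eq_zero]
    intro d hd
    refine eq_zero_of_flat_cover (fun i => Γ(W i, ⊤)) (fun i => (w i).appTop.hom)
      (fun i => (w i).flat_appTop) ?_ d fun i => congrFun hd i
    intro q
    obtain ⟨i, x, hx⟩ := hs (T.isoSpec.inv q)
    refine ⟨i, (W i).isoSpec.hom x, ?_⟩
    change (Spec.map (w i).appTop) ((W i).isoSpec.hom x) = q
    rw [← Scheme.Hom.comp_apply, Scheme.isoSpec_hom_naturality, Scheme.Hom.comp_apply, hx,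
      ← Scheme.Hom.comp_apply, Iso.inv_hom_id]
    rfl
  have hfinΦ : Module.Finite K (∀ i, Γ(W i, ⊤)) := by
    have := fun i => (hW i).1
    infer_instance
  have h1 : Module.Finite K Γ(T, ⊤) := Module.Finite.of_injective Φ hΦ
  have h2 : Module.finrank K Γ(T, ⊤) ≤ ∑ i, n i := by
    have := fun i => (hW i).1
    refine (LinearMap.finrank_le_finrank_of_injective hΦ).trans ?_
    rw [Module.finrank_pi_fintype]
    exact Finset.sum_le_sum fun i _ => (hW i).2
  exact ⟨haff, h1, h2⟩

end K623.BddCover
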