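import Groth.Agent.AlgSp.K623.Pts
import Groth.Agent.AlgSp.K623.BddBridge
import Groth.Prelude.Def_W4decUnivBdd
import Mathlib.CategoryTheory.Limits.Constructions.Over.Connected

/-!
# Universally bounded fibres for maps from schemes to fppf sheaves, through base changes to schemes
-/

universe u

open CategoryTheory CategoryTheory.Limits AlgebraicGeometry Opposite AlgSp

noncomputable section

namespace K623.BddFle

variable {S : Scheme.{u}}

/-- `n` bounds the degrees of all base changes of `f` to spectra of fields. -/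
def FLE (n : ℕ) {X Y : Scheme.{u}} (f : X ⟶ Y) : Prop :=
  ∀ ⦃K : Type u⦄ [Field K] (g : Spec (CommRingCat.of K) ⟶ Y) ⦃T : Scheme.{u}⦄ (fst : T ⟶ X)
    (snd : T ⟶ Spec (CommRingCat.of K)), IsPullback fst snd f g → IsFinite snd ∧ ∀ s, snd.finrank s ≤ n

theorem isPullback_over {A B C D : Over S} {a : A ⟶ B} {b : A ⟶ C} {c : B ⟶ D} {d : C ⟶ D}
    (h : IsPullback a.left b.left c.left d.left) : IsPullback a b c d := by
  refine IsPullback.of_map (Over.forget S) ?_ h
  ext
  exact h.w

/-- A fibre product of `S`-schemes in schemes gives one in sheaves. -/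
theorem isPullback_yon {A B C D : Over S} {a : A ⟶ B} {b : A ⟶ C} {c : B ⟶ D} {d : C ⟶ D}
    (h : IsPullback a.left b.left c.left d.left) :
    IsPullback ((yon S).map a) ((yon S).map b) ((yon S).map c) ((yon S).map d) :=
  (isPullback_over h).map (yon S)

/-- A represented fibre product in sheaves of maps between schemes is a fibre product of schemes. -/
theorem isPullback_left {A B C D : Over S} {a : A ⟶ B} {b : A ⟶ C} {c : B ⟶ D} {d : C ⟶ D}
    (h : IsPullback ((yon S).map a) ((yon S).map b) ((yon S).map c) ((yon S).map d)) :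
    IsPullback a.left b.left c.left d.left :=
  (IsPullback.of_map (yon S) ((yon S).map_injective (by simpa using h.w)) h).map (Over.forget S)

theorem degFibresLE_mono {n m : ℕ} (hnm : n ≤ m) {F : Sp S} {U : Over S} {a : (yon S).obj U ⟶ F}
    (h : W4dec.DegFibresLE n a) : W4dec.DegFibresLE m a :=
  fun q T c snd hsq => ⟨(h q T c snd hsq).1, fun s => ((h q T c snd hsq).2 s).trans hnm⟩

theorem fle_mono {n m : ℕ} (hnm : n ≤ m) {X Y : Scheme.{u}} {f : X ⟶ Y} (h : FLE n f) : FLE m f :=
  fun _ _ g _ fst snd hsq => ⟨(h g fst snd hsq).1, fun s => ((h g fst snd hsq).2 s).trans hnm⟩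

theorem fle_of_isPullback {n : ℕ} {X Y X' Y' : Scheme.{u}} {f : X ⟶ Y} {g : Y' ⟶ Y} {f' : X' ⟶ Y'}
    {g' : X' ⟶ X} (h : IsPullback g' f' f g) (hf : FLE n f) : FLE n f' :=
  fun _ _ k _ fst snd hsq => hf (k ≫ g) (fst ≫ g') snd (hsq.paste_horiz h)

/-- Morphism form of `DegFibresLE` over arbitrary field-valued points given as morphisms. -/
theorem DegFibresLE.apply {n : ℕ} {F : Sp S} {U : Over S} {a : (yon S).obj U ⟶ F}
    (h : W4dec.DegFibresLE n a) {K : Type u} [Field K] {str : Spec (CommRingCat.of K) ⟶ S}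
    (φ : (yon S).obj (Over.mk str) ⟶ F) {T : Over S} (c : T ⟶ Over.mk str)
    (snd : (yon S).obj T ⟶ (yon S).obj U) (hsq : IsPullback ((yon S).map c) snd φ a) :
    IsFinite c.left ∧ ∀ s, c.left.finrank s ≤ n := by
  refine h (Pts.ofHom φ) T c snd ?_
  rw [Pts.toHom_ofHom]
  exact hsq

/-- All base changes to schemes of a map with fibre degrees at most `n` have fibre degrees at most `n`. -/
theorem fle_of_degFibresLE {n : ℕ} {F : Sp S} {U : Over S} {a : (yon S).obj U ⟶ F}
    (ha : W4dec.DegFibresLE n a) {T V : Over S} {g : (yon S).obj T ⟶ F} {snd : V ⟶ T}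
    {fst : (yon S).obj V ⟶ (yon S).obj U} (h : IsPullback fst ((yon S).map snd) a g) :
    FLE n snd.left := by
  intro K _ k W p q hW
  let K' : Over S := Over.mk (k ≫ T.hom)
  let W' : Over S := Over.mk (q ≫ k ≫ T.hom)
  let k' : K' ⟶ T := Over.homMk k rfl
  let c : W' ⟶ K' := Over.homMk q rfl
  let p' : W' ⟶ V := Over.homMk p (by
    change p ≫ V.hom = q ≫ k ≫ T.hom
    rw [← Over.w snd, reassoc_of% hW.w])
  have h1 : IsPullback ((yon S).map p') ((yon S).map c) ((yon S).map snd) ((yon S).map k') :=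
    isPullback_yon hW
  exact DegFibresLE.apply ha ((yon S).map k' ≫ g) c _ (h1.paste_horiz h).flip

/-- Converse: if some represented base change to each field-valued point is bounded. -/
theorem degFibresLE_of_fle {n : ℕ} {F : Sp S} {U : Over S} {a : (yon S).obj U ⟶ F}
    (h : ∀ (q : FieldPt F) (T : Over S) (c : T ⟶ q.pt) (snd : (yon S).obj T ⟶ (yon S).obj U),
      IsPullback ((yon S).map c) snd q.toHom a → FLE n c.left) : W4dec.DegFibresLE n a := by
  intro q T c snd hsq
  exact h q T c snd hsq (𝟙 _) (𝟙 _) c.left (IsPullback.of_horiz_isIso ⟨by simp⟩)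

/-- For `P` a map from a scheme to the spectrum of a field: the bound on the degree passes to all base changes. -/
theorem fle_of_isFinite {n : ℕ} {K : Type u} [Field K] {T : Scheme.{u}} (c : T ⟶ Spec (CommRingCat.of K))
    (h1 : IsFinite c) (h2 : ∀ s, c.finrank s ≤ n) : FLE n c := by
  intro L _ g W p q hW
  have : IsFinite q := MorphismProperty.of_isPullback hW h1
  refine ⟨this, fun s => ?_⟩
  rw [Scheme.Hom.finrank_of_isPullback _ _ _ _ hW]
  exact h2 _

theorem fle_iff_of_field {n : ℕ} {K : Type u} [Field K] {T : Scheme.{u}}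
    (c : T ⟶ Spec (CommRingCat.of K)) : FLE n c ↔ IsFinite c ∧ ∀ s, c.finrank s ≤ n :=
  ⟨fun h => h (𝟙 _) (𝟙 _) c (IsPullback.of_horiz_isIso ⟨by simp⟩), fun h => fle_of_isFinite c h.1 h.2⟩

/-- `FLE` on schemes is `DegFibresLE` of the represented map. -/
theorem degFibresLE_yon_iff {n : ℕ} {U V : Over S} (f : V ⟶ U) :
    W4dec.DegFibresLE n ((yon S).map f) ↔ FLE n f.left := by
  constructor
  · intro h
    exact fle_of_degFibresLE h (snd := f) (fst := 𝟙 _) (g := 𝟙 _) (IsPullback.of_horiz_isIso ⟨by simp⟩)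
  · intro h q T c snd hsq
    obtain ⟨snd, rfl⟩ := (yon S).map_surjective snd
    obtain ⟨g, hg⟩ := (yon S).map_surjective q.toHom
    rw [← hg] at hsq
    exact h g.left _ _ (isPullback_left hsq).flip

end K623.BddFle
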