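import Groth.Agent.AlgSp.K623.ArtGen
import Groth.Agent.AlgSp.K623.BddCover
import Groth.Agent.AlgSp.K623.BddFle

/-!
# Degrees of fibres of compositions
-/

universe u

open CategoryTheory CategoryTheory.Limits AlgebraicGeometry TensorProduct

namespace K623.BddComp

open K623.BddBridge K623.BddFle K623.BddCover

variable {K : Type u} [Field K]

/-- Finiteness and degree for `Spec` of an algebra over a field. -/
theorem finite_specMap_iff {A : Type u} [CommRing A] [Algebra K A] (n : ℕ) :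
    (IsFinite (Spec.map (CommRingCat.ofHom (algebraMap K A))) ∧
      ∀ s, (Spec.map (CommRingCat.ofHom (algebraMap K A))).finrank s ≤ n) ↔
      Module.Finite K A ∧ Module.finrank K A ≤ n := by
  have h1 : IsFinite (Spec.map (CommRingCat.ofHom (algebraMap K A))) ↔ Module.Finite K A := by
    rw [IsFinite.SpecMap_iff]
    exact RingHom.finite_algebraMap
  constructor
  · rintro ⟨h2, h3⟩
    have h4 := h1.1 h2
    refine ⟨h4, ?_⟩
    obtain ⟨s⟩ : Nonempty ↥(Spec (CommRingCat.of K)) := inferInstanceAs (Nonempty (PrimeSpectrum K))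
    have := h3 s
    rw [Scheme.Hom.finrank_SpecMap_algebraMap, Module.rankAtStalk_eq_finrank_of_free] at this
    exact this
  · rintro ⟨h2, h3⟩
    refine ⟨h1.2 h2, fun s => ?_⟩
    rw [Scheme.Hom.finrank_SpecMap_algebraMap, Module.rankAtStalk_eq_finrank_of_free]
    exact h3

/-- The composite of a morphism with fibre degrees `≤ n` and a finite scheme of degree `≤ m` over a field. -/
theorem finite_comp {n m : ℕ} {X Y : Scheme.{u}} (t : X ⟶ Y) (c : Y ⟶ Spec (CommRingCat.of K))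
    (ht : FLE n t) (hc : IsFinite c) (hc2 : ∀ s, c.finrank s ≤ m) :
    IsFinite (t ≫ c) ∧ ∀ s, (t ≫ c).finrank s ≤ n * m := by
  have hYfin : Finite Y := finite_of_isFinite c
  have hYdisc : DiscreteTopology Y := discrete_of_isFinite c
  have hYaff : IsAffine Y := isAffine_of_isAffineHom c
  -- `X` is finite and discrete
  have hX : Finite X ∧ DiscreteTopology X := by
    refine finite_discrete (t ≫ c) (fun y : Y => pullback t (Y.fromSpecResidueField y))
      (fun y => pullback.fst _ _) (fun y => ?_) (fun x => ?_)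
    · have h1 : IsClosedImmersion (Y.fromSpecResidueField y) :=
        (isClosed_singleton_iff_isClosedImmersion).1 (isClosed_discrete _)
      have h2 : IsFinite (pullback.snd t (Y.fromSpecResidueField y)) :=
        (ht (K := Y.residueField y) _ _ _ (IsPullback.of_hasPullback t (Y.fromSpecResidueField y))).1
      rw [← Category.assoc, pullback.condition, Category.assoc]
      infer_instance
    · obtain ⟨s⟩ : Nonempty ↥(Spec (Y.residueField (t x))) := inferInstance
      obtain ⟨z, hz, -⟩ := Scheme.Pullback.exists_preimage_pullback (f := t)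
        (g := Y.fromSpecResidueField (t x)) x s (by simp)
      exact ⟨t x, z, hz⟩
  obtain ⟨hXfin, hXdisc⟩ := hX
  have hXaff : IsAffine X := inferInstance
  rw [← finiteOfDegLE_iff]
  let _ : Algebra K Γ(X, ⊤) := BddFib.secAlgebra (CommRingCat.of K) (t ≫ c)
  let _ : Algebra K Γ(Y, ⊤) := BddFib.secAlgebra (CommRingCat.of K) c
  let _ : Algebra Γ(Y, ⊤) Γ(X, ⊤) := t.appTop.hom.toAlgebra
  have hst : IsScalarTower K Γ(Y, ⊤) Γ(X, ⊤) := by
    refine IsScalarTower.of_algebraMap_eq fun r => ?_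
    change ((Scheme.ΓSpecIso (CommRingCat.of K)).inv ≫ (t ≫ c).appTop).hom r =
      t.appTop.hom (((Scheme.ΓSpecIso (CommRingCat.of K)).inv ≫ c.appTop).hom r)
    rw [Scheme.Hom.comp_appTop]
    rfl
  have hY := (finiteOfDegLE_iff c m).2 ⟨hc, hc2⟩
  have hY1 : Module.Finite K Γ(Y, ⊤) := hY.2.1
  have hY2 : Module.finrank K Γ(Y, ⊤) ≤ m := hY.2.2
  have key : ∀ I : Ideal Γ(Y, ⊤), I.IsMaximal → Module.Finite (Γ(Y, ⊤) ⧸ I) ((Γ(Y, ⊤) ⧸ I) ⊗[Γ(Y, ⊤)] Γ(X, ⊤)) ∧
      Module.finrank (Γ(Y, ⊤) ⧸ I) ((Γ(Y, ⊤) ⧸ I) ⊗[Γ(Y, ⊤)] Γ(X, ⊤)) ≤ n := by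
    intro I hI
    let _ : Field (Γ(Y, ⊤) ⧸ I) := Ideal.Quotient.field I
    rw [← finite_specMap_iff]
    have h1 := isPullback_SpecMap_of_isPushout _ _ _ _
      (CommRingCat.isPushout_tensorProduct Γ(Y, ⊤) (Γ(Y, ⊤) ⧸ I) Γ(X, ⊤))
    have h2 : IsPullback X.isoSpec.inv (Spec.map t.appTop) t Y.isoSpec.inv :=
      IsPullback.of_horiz_isIso ⟨(Scheme.isoSpec_inv_naturality t).symm⟩
    exact ht (K := Γ(Y, ⊤) ⧸ I) _ _ _ (h1.flip.paste_horiz h2)
  obtain ⟨h1, h2⟩ := ArtGen.finrank_le (K := K) (B := Γ(Y, ⊤)) (M := Γ(X, ⊤)) n key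
  exact ⟨hXaff, h1, h2.trans (Nat.mul_le_mul_left n hY2)⟩

theorem fle_comp {n m : ℕ} {X Y Z : Scheme.{u}} {f : X ⟶ Y} {g : Y ⟶ Z} (hf : FLE n f) (hg : FLE m g) :
    FLE (n * m) (f ≫ g) := by
  intro K _ k T fst snd hT
  have h1 := IsPullback.of_hasPullback g k
  have hw : (fst ≫ f) ≫ g = snd ≫ k := by rw [Category.assoc]; exact hT.w
  have h2 : IsPullback fst (h1.lift _ _ hw) f (pullback.fst g k) := by
    refine IsPullback.of_bot ?_ (h1.lift_fst _ _ hw).symm h1
    rw [h1.lift_snd]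
    exact hT
  have h3 := hg k _ _ h1
  have h4 := finite_comp (h1.lift _ _ hw) (pullback.snd g k) (fle_of_isPullback h2 hf) h3.1 h3.2
  rw [h1.lift_snd] at h4
  exact h4

end K623.BddComp
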