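import Groth.Agent.AlgSp.K623.BddComp
import Groth.Agent.Etbase.FpqcDescent

/-!
# Degrees of fibres: descent along surjections, flat surjective triangles, number of points
-/

universe u

open CategoryTheory CategoryTheory.Limits AlgebraicGeometry TensorProduct

namespace K623.BddDesc

open K623.BddBridge K623.BddFle K623.BddCover K623.BddComp

/-- Finiteness and degree descend along an extension of fields. -/
theorem finite_of_fieldExt {K : Type u} [Field K] {L : Type u} [Field L] {n : ℕ} {T T' : Scheme.{u}}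
    (p : T ⟶ Spec (CommRingCat.of K)) (k : Spec (CommRingCat.of L) ⟶ Spec (CommRingCat.of K))
    (p' : T' ⟶ Spec (CommRingCat.of L)) (k' : T' ⟶ T) (h : IsPullback k' p' p k)
    (hf : IsFinite p') (hn : ∀ s, p'.finrank s ≤ n) : IsFinite p ∧ ∀ s, p.finrank s ≤ n := by
  have hs : Surjective k := ⟨fun s => by
    obtain ⟨s'⟩ : Nonempty ↥(Spec (CommRingCat.of L)) := inferInstanceAs (Nonempty (PrimeSpectrum L))
    exact ⟨s', Subsingleton.elim (α := PrimeSpectrum K) _ _⟩⟩
  have hfl : Flat k := inferInstance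
  have hfin : IsFinite p :=
    MorphismProperty.of_isPullback_of_descendsAlong (P := @IsFinite)
      (Q := @Surjective ⊓ @Flat ⊓ @QuasiCompact) h.flip ⟨⟨hs, hfl⟩, inferInstance⟩ hf
  refine ⟨hfin, fun s => ?_⟩
  obtain ⟨s', rfl⟩ := hs.surj s
  rw [← Scheme.Hom.finrank_of_isPullback _ _ _ _ h]
  exact hn s'

/-- Descent of the bound on fibre degrees along a surjective base change. -/
theorem fle_of_isPullback_of_surjective {n : ℕ} {X Y X' Y' : Scheme.{u}} {f : X ⟶ Y} {g : Y' ⟶ Y}
    [Surjective g] {f' : X' ⟶ Y'} {g' : X' ⟶ X} (h : IsPullback g' f' f g) (hf' : FLE n f') :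
    FLE n f := by
  intro K _ k T fst snd hT
  obtain ⟨s⟩ : Nonempty ↥(Spec (CommRingCat.of K)) := inferInstanceAs (Nonempty (PrimeSpectrum K))
  obtain ⟨y', hy'⟩ := Surjective.surj (f := g) (k s)
  obtain ⟨z, -, -⟩ := Scheme.Pullback.exists_preimage_pullback (f := k) (g := g) s y' hy'.symm
  let Z := pullback k g
  let L : Type u := Z.residueField z
  let a : Spec (CommRingCat.of L) ⟶ Spec (CommRingCat.of K) := Z.fromSpecResidueField z ≫ pullback.fst k g
  let b : Spec (CommRingCat.of L) ⟶ Y' := Z.fromSpecResidueField z ≫ pullback.snd k g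
  have hab : a ≫ k = b ≫ g := by
    simp only [a, b, Category.assoc, pullback.condition]
  have h1 : IsPullback (pullback.fst snd a) (pullback.snd snd a) snd a := IsPullback.of_hasPullback snd a
  have h2 := h1.paste_horiz hT
  rw [hab] at h2
  have h3 : IsPullback (h.lift (pullback.fst snd a ≫ fst) (pullback.snd snd a ≫ b)
      (h2.w.trans (Category.assoc _ _ _).symm)) (pullback.snd snd a) f' b := by
    refine IsPullback.of_right ?_ (h.lift_snd _ _ _) h
    rw [h.lift_fst]
    exact h2
  obtain ⟨h4, h5⟩ := hf' b _ _ h3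
  exact finite_of_fieldExt snd a _ _ h1 h4 h5

/-- A flat surjective triangle. -/
theorem fle_of_flat_surjective {n : ℕ} {X Y Z : Scheme.{u}} (f : X ⟶ Y) (h : Y ⟶ Z) [Flat f]
    [Surjective f] (hg : FLE n (f ≫ h)) : FLE n h := by
  intro K _ k T fst snd hT
  have h1 : IsPullback (pullback.fst fst f) (pullback.snd fst f) fst f := IsPullback.of_hasPullback fst f
  have h2 := h1.flip.paste_vert hT
  have h3 := hg k _ _ h2
  have h4 := finite_of_cover snd (ι := Unit) (fun _ => pullback fst f) (fun _ => pullback.fst fst f)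
    (fun _ => n) (fun _ => h3) (fun t => ?_)
  · simpa using h4
  · obtain ⟨x, hx⟩ := Surjective.surj (f := pullback.fst fst f) t
    exact ⟨(), x, hx⟩

/-- A family version: finitely many flat maps `X_i ⟶ Y`, jointly surjective. -/
theorem fle_of_flat_cover {Y Z : Scheme.{u}} (h : Y ⟶ Z) {ι : Type*} [Fintype ι] (X : ι → Scheme.{u})
    (f : ∀ i, X i ⟶ Y) [∀ i, Flat (f i)] (hs : ∀ y : Y, ∃ (i : ι) (x : X i), f i x = y) (n : ι → ℕ)
    (hg : ∀ i, FLE (n i) (f i ≫ h)) : FLE (∑ i, n i) h := by
  intro K _ k T fst snd hT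
  refine finite_of_cover snd (fun i => pullback fst (f i)) (fun i => pullback.fst fst (f i)) n
    (fun i => ?_) (fun t => ?_)
  · have h1 : IsPullback (pullback.fst fst (f i)) (pullback.snd fst (f i)) fst (f i) :=
      IsPullback.of_hasPullback fst (f i)
    exact hg i k _ _ (h1.flip.paste_vert hT)
  · obtain ⟨i, x, hx⟩ := hs (fst t)
    obtain ⟨z, hz, -⟩ := Scheme.Pullback.exists_preimage_pullback (f := fst) (g := f i) t x hx.symm
    exact ⟨i, z, hz⟩

theorem card_primeSpectrum_le {K A : Type u} [Field K] [CommRing A] [Algebra K A] [Module.Finite K A] :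
    Finite (PrimeSpectrum A) ∧ Nat.card (PrimeSpectrum A) ≤ Module.finrank K A := by
  have hart : IsArtinianRing A := IsArtinianRing.of_finite K A
  have hfin : Finite (PrimeSpectrum A) := inferInstance
  refine ⟨hfin, ?_⟩
  have := Fintype.ofFinite (PrimeSpectrum A)
  have hcop : Pairwise (Function.onFun IsCoprime fun p : PrimeSpectrum A => p.asIdeal) := by
    intro p q hne
    have h1 : p.asIdeal.IsMaximal := p.isPrime.isMaximal'
    have h2 : q.asIdeal.IsMaximal := q.isPrime.isMaximal'
    exact Ideal.isCoprime_iff_sup_eq.2 (h1.coprime_of_ne h2 (fun he => hne (PrimeSpectrum.ext he)))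
  have hsurj : Function.Surjective (LinearMap.pi fun p : PrimeSpectrum A => p.asIdeal.mkQ) :=
    Ideal.pi_mkQ_surjective hcop
  let f : A →ₗ[K] (∀ p : PrimeSpectrum A, A ⧸ p.asIdeal) :=
    (LinearMap.pi fun p : PrimeSpectrum A => p.asIdeal.mkQ).restrictScalars K
  have h1 := LinearMap.finrank_le_finrank_of_surjective (f := f) hsurj
  refine le_trans ?_ h1
  rw [Module.finrank_pi_fintype, Nat.card_eq_fintype_card, Fintype.card_eq_sum_ones]
  refine Finset.sum_le_sum fun p _ => ?_
  have : Nontrivial (A ⧸ p.asIdeal) := Ideal.Quotient.nontrivial_iff.2 p.isPrime.ne_top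
  exact Module.finrank_pos

theorem card_le {n : ℕ} {K : Type u} [Field K] {T : Scheme.{u}} (c : T ⟶ Spec (CommRingCat.of K))
    (h1 : IsFinite c) (h2 : ∀ s, c.finrank s ≤ n) : Finite T ∧ Nat.card T ≤ n := by
  have hT := (finiteOfDegLE_iff c n).2 ⟨h1, h2⟩
  let _ : Algebra K Γ(T, ⊤) := BddFib.secAlgebra (CommRingCat.of K) c
  have hT0 : IsAffine T := hT.1
  have hT1 : Module.Finite K Γ(T, ⊤) := hT.2.1
  have hT2 : Module.finrank K Γ(T, ⊤) ≤ n := hT.2.2
  have h3 := card_primeSpectrum_le (K := K) (A := Γ(T, ⊤))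
  let e : PrimeSpectrum Γ(T, ⊤) ≃ T := (Scheme.homeoOfIso T.isoSpec.symm).toEquiv
  have := h3.1
  exact ⟨Finite.of_equiv _ e, (Nat.card_congr e).symm.trans_le (h3.2.trans hT2)⟩

end K623.BddDesc
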