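import Groth.Agent.AlgSp.K623.Pts
import Groth.Agent.AlgSp.K623.BddFle
import Groth.Agent.AlgSp.K609.Points
import Groth.Agent.Flat2G.FibreDegreeF
import Groth.Prelude.Def_AlgSpMor5

/-!
# The degree stratification of a flat, separated, locally quasi-finite morphism from a scheme
-/

set_option autoImplicit false
universe u
open CategoryTheory CategoryTheory.Limits AlgebraicGeometry Opposite Topology AlgSp
open Groth.Agent.Flat2G.FibreDegreeA Groth.Agent.Flat2G.FibreDegreeB
open Groth.Agent.Flat2G.FibreDegreeC Groth.Agent.Flat2G.FibreDegreeD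
open Groth.Agent.Flat2G.FibreDegreeE

noncomputable section

namespace K623.DegStrat

open K623.Pts K623.BddFle

variable {S : Scheme.{u}} {X : Sp S} {W : Over S}

/-- The base change to the spectrum of a field of a represented base change. -/
theorem exists_isPullback_left {w : (yon S).obj W ⟶ X} {T E T' E' : Over S} {g : (yon S).obj T ⟶ X}
    {q : E ⟶ T} {fst : (yon S).obj E ⟶ (yon S).obj W} (sq : IsPullback fst ((yon S).map q) w g)
    (γ : T' ⟶ T) {c : E' ⟶ T'} {fst' : (yon S).obj E' ⟶ (yon S).obj W}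
    (sq' : IsPullback fst' ((yon S).map c) w ((yon S).map γ ≫ g)) :
    ∃ a : E'.left ⟶ E.left, IsPullback a c.left q.left γ.left := by
  have hw : fst' ≫ w = ((yon S).map c ≫ (yon S).map γ) ≫ g := by
    rw [sq'.w, Category.assoc]
  obtain ⟨a, ha⟩ := (yon S).map_surjective (sq.lift _ _ hw)
  have h1 : (yon S).map a ≫ fst = fst' := by rw [ha, sq.lift_fst]
  have h2 : (yon S).map a ≫ (yon S).map q = (yon S).map c ≫ (yon S).map γ := by rw [ha, sq.lift_snd]
  refine ⟨a.left, isPullback_left ?_⟩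
  refine IsPullback.of_right (h₁₂ := fst) (h₂₂ := g) (v₁₃ := w) ?_ h2 sq
  rw [h1]
  exact sq'

variable (w : (yon S).obj W ⟶ X) (hfl : RepWith @Flat w) (hfp : RepWith @LocallyOfFinitePresentation w)
  (hsep : RepWith @IsSeparated w) (hqf : RepWith @LocallyQuasiFinite w)

include hfl hfp hsep hqf in
/-- `Good` only depends on the point of `X`. -/
theorem good_iff_of_eq {d : ℕ} {T E T' E' : Over S} {g : (yon S).obj T ⟶ X}
    {q : E ⟶ T} {fst : (yon S).obj E ⟶ (yon S).obj W} (sq : IsPullback fst ((yon S).map q) w g)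
    {g' : (yon S).obj T' ⟶ X} {q' : E' ⟶ T'} {fst' : (yon S).obj E' ⟶ (yon S).obj W}
    (sq' : IsPullback fst' ((yon S).map q') w g') (t : ↥T.left) (t' : ↥T'.left)
    (h : Points.ofPt g t = Points.ofPt g' t') : Good q.left d t ↔ Good q'.left d t' := by
  obtain ⟨Ω, _, z, a, b, hab, ha⟩ := exists_of_ofPt_eq_mk g t (FieldPt.ofPt g' t') h
  have hab' : (yon S).map a ≫ g =
      (yon S).map (b ≫ (Over.homMk (T'.left.fromSpecResidueField t') rfl :
        Over.mk (T'.left.fromSpecResidueField t' ≫ T'.hom) ⟶ T')) ≫ g' := by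
    rw [Functor.map_comp, Category.assoc]
    refine hab.trans ?_
    exact congrArg ((yon S).map b ≫ ·) (FieldPt.toHom_ofPt g' t')
  set b' := b ≫ (Over.homMk (T'.left.fromSpecResidueField t') rfl :
        Over.mk (T'.left.fromSpecResidueField t' ≫ T'.hom) ⟶ T') with hb'
  have hb't : ∀ s, b'.left s = t' := by
    intro s
    rw [hb', Over.comp_left, Scheme.Hom.comp_apply]
    exact Scheme.fromSpecResidueField_apply _ _
  obtain ⟨E1, c, fst1, sq1⟩ := hfl.1 ((yon S).map a ≫ g)
  obtain ⟨α, hα⟩ := exists_isPullback_left sq a sq1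
  obtain ⟨β, hβ⟩ := exists_isPullback_left sq' b' (hab' ▸ sq1)
  obtain ⟨p⟩ := exists_pt_spec Ω
  have f1 : Flat q.left := hfl.2 _ _ _ sq
  have f2 : LocallyOfFinitePresentation q.left := hfp.2 _ _ _ sq
  have f3 : IsSeparated q.left := hsep.2 _ _ _ sq
  have f4 : LocallyQuasiFinite q.left := hqf.2 _ _ _ sq
  have g1 : Flat q'.left := hfl.2 _ _ _ sq'
  have g2 : LocallyOfFinitePresentation q'.left := hfp.2 _ _ _ sq'
  have g3 : IsSeparated q'.left := hsep.2 _ _ _ sq'
  have g4 : LocallyQuasiFinite q'.left := hqf.2 _ _ _ sq'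
  rw [← ha p, ← hb't p]
  exact (good_iff_le_rkS (K := Ω) hα p).trans (good_iff_le_rkS (K := Ω) hβ p).symm

/-- The set of points of `X` over which the degree of `w` is at least `d`. -/
def degSet (d : ℕ) : Set (Points X) :=
  {x | ∃ (T E : Over S) (g : (yon S).obj T ⟶ X) (q : E ⟶ T) (fst : (yon S).obj E ⟶ (yon S).obj W)
    (_ : IsPullback fst ((yon S).map q) w g) (t : ↥T.left), Points.ofPt g t = x ∧ Good q.left d t}

include hfl hfp hsep hqf in
theorem ofPt_mem_degSet_iff {d : ℕ} {T E : Over S} {g : (yon S).obj T ⟶ X}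
    {q : E ⟶ T} {fst : (yon S).obj E ⟶ (yon S).obj W} (sq : IsPullback fst ((yon S).map q) w g)
    (t : ↥T.left) : Points.ofPt g t ∈ degSet w d ↔ Good q.left d t := by
  constructor
  · rintro ⟨T', E', g', q', fst', sq', t', he, h⟩
    exact (good_iff_of_eq w hfl hfp hsep hqf sq' sq t' t he).1 h
  · intro h
    exact ⟨T, E, g, q, fst, sq, t, rfl, h⟩

include hfl hfp hsep hqf in
theorem isOpen_degSet (d : ℕ) : IsOpen (degSet w d) := by
  rw [Points.isOpen_iff]
  intro T g
  obtain ⟨E, q, fst, sq⟩ := hfl.1 g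
  have h1 : Points.ofPt g ⁻¹' degSet w d = {t | Good q.left d t} := by
    ext t
    exact ofPt_mem_degSet_iff w hfl hfp hsep hqf sq t
  rw [h1]
  have f1 : Flat q.left := hfl.2 _ _ _ sq
  have f2 : LocallyOfFinitePresentation q.left := hfp.2 _ _ _ sq
  exact isOpen_good q.left d

theorem degSet_anti {d e : ℕ} (h : e ≤ d) : degSet w d ⊆ degSet w e := by
  rintro x ⟨T, E, g, q, fst, sq, t, he, hg⟩
  exact ⟨T, E, g, q, fst, sq, t, he, Good.mono h hg⟩

include hfl in
theorem degSet_zero : degSet w 0 = Set.univ := by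
  refine Set.eq_univ_of_forall fun x => ?_
  induction x using Points.ind with | h p => ?_
  obtain ⟨s⟩ := exists_pt_spec p.K
  obtain ⟨E, q, fst, sq⟩ := hfl.1 p.toHom
  exact ⟨p.pt, E, p.toHom, q, fst, sq, s, Points.ofPt_toHom p s, Good.zero _ _⟩

include hfl hfp hsep hqf in
theorem degSet_eq_empty {n : ℕ} (hn : W4dec.DegFibresLE n w) : degSet w (n + 1) = ∅ := by
  refine Set.eq_empty_of_forall_notMem fun x hx => ?_
  induction x using Points.ind with | h p => ?_
  obtain ⟨s⟩ := exists_pt_spec p.K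
  obtain ⟨E, q, fst, sq⟩ := hfl.1 p.toHom
  rw [← Points.ofPt_toHom p s, ofPt_mem_degSet_iff w hfl hfp hsep hqf sq] at hx
  obtain ⟨h1, h2⟩ := hn p E q fst sq.flip
  have f1 : Flat q.left := hfl.2 _ _ _ sq
  have f2 : LocallyOfFinitePresentation q.left := hfp.2 _ _ _ sq
  have f3 : IsSeparated q.left := hsep.2 _ _ _ sq
  have f4 : LocallyQuasiFinite q.left := hqf.2 _ _ _ sq
  have h3 : IsPullback (𝟙 E.left) q.left q.left (𝟙 (Spec (CommRingCat.of p.K))) := IsPullback.of_id_fst
  have h4 := (good_iff_le_rkS (K := p.K) h3 (d := n + 1) s).1 hx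
  have h5 := @rkS_top_eq_finrank p.K _ _ q.left h1 s
  rw [h5] at h4
  have h6 : n + 1 ≤ q.left.finrank s := by exact_mod_cast h4
  have := h2 s
  omega

include hfl hfp hsep hqf in
/-- The characterisation of the strata. -/
theorem isFinLocFreeOfDegMor_iff (r : ℕ) {T P : Sp S} (g : T ⟶ X) (fst : P ⟶ (yon S).obj W) (snd : P ⟶ T)
    (sq : IsPullback fst snd w g) :
    IsFinLocFreeOfDegMor r snd ↔ Set.range (Points.map g) ⊆ degSet w r \ degSet w (r + 1) := by
  constructor
  · rintro hr _ ⟨τ, rfl⟩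
    induction τ using Points.ind with | h p => ?_
    obtain ⟨s⟩ := exists_pt_spec p.K
    obtain ⟨E, q, fst', sq'⟩ := hr.1 p.toHom
    have h1 : Mor2.IsFinLocFreeOfDeg r q.left := hr.2 _ _ _ sq'
    obtain ⟨⟨h2, h3, h4⟩, h5⟩ := h1
    have sq2 : IsPullback (fst' ≫ fst) ((yon S).map q) w (p.toHom ≫ g) :=
      (sq'.flip.paste_vert sq.flip).flip
    have f1 : Flat q.left := hfl.2 _ _ _ sq2
    have f2 : LocallyOfFinitePresentation q.left := hfp.2 _ _ _ sq2
    have f3 : IsSeparated q.left := hsep.2 _ _ _ sq2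
    have f4 : LocallyQuasiFinite q.left := hqf.2 _ _ _ sq2
    have h6 : IsPullback (𝟙 E.left) q.left q.left (𝟙 (Spec (CommRingCat.of p.K))) := IsPullback.of_id_fst
    have h7 : ∀ d, Good q.left d s ↔ d ≤ r := by
      intro d
      have h8 := good_iff_le_rkS (K := p.K) h6 (d := d) s
      rw [@rkS_top_eq_finrank p.K _ _ q.left h2 s, h5 s] at h8
      exact h8.trans Nat.cast_le
    have h9 : Points.map g (Points.mk p) = Points.ofPt (p.toHom ≫ g) s := by
      rw [← Points.ofPt_toHom p s, Points.map_ofPt]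
    rw [h9]
    refine ⟨(ofPt_mem_degSet_iff w hfl hfp hsep hqf sq2 s).2 ((h7 r).2 le_rfl), fun h10 => ?_⟩
    have := (h7 (r + 1)).1 ((ofPt_mem_degSet_iff w hfl hfp hsep hqf sq2 s).1 h10)
    omega
  · intro h
    refine ⟨MorphismProperty.of_isPullback (P := Representable) sq hfl.1, fun U V k fst' q sq' => ?_⟩
    have sq2 : IsPullback (fst' ≫ fst) ((yon S).map q) w (k ≫ g) :=
      (sq'.flip.paste_vert sq.flip).flip
    have f1 : Flat q.left := hfl.2 _ _ _ sq2
    have f2 : LocallyOfFinitePresentation q.left := hfp.2 _ _ _ sq2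
    have f3 : IsSeparated q.left := hsep.2 _ _ _ sq2
    have f4 : LocallyQuasiFinite q.left := hqf.2 _ _ _ sq2
    have h1 : ∀ (u : ↥U.left) (d : ℕ), d ≤ r ↔ Good q.left d u := by
      intro u d
      have h2 := h ⟨Points.ofPt k u, rfl⟩
      rw [Points.map_ofPt] at h2
      obtain ⟨h3, h4⟩ := h2
      rw [ofPt_mem_degSet_iff w hfl hfp hsep hqf sq2] at h3 h4
      constructor
      · intro hd
        exact Good.mono hd h3
      · intro hd
        by_contra hcon
        exact h4 (Good.mono (by omega) hd)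
    have h2 := (isFinLocFreeOfDeg_iff q.left (fun _ => r) h1 U.left (𝟙 U.left) r).2 fun _ => rfl
    have h3 : finLocFreeOfDeg r (pullback.snd q.left (𝟙 U.left)) := h2
    have h4 : q.left = inv (pullback.fst q.left (𝟙 U.left)) ≫ pullback.snd q.left (𝟙 U.left) := by
      rw [IsIso.eq_inv_comp]
      exact (pullback.condition).trans (Category.comp_id _)
    have : (finLocFreeOfDeg.{u} r).RespectsIso := MorphismProperty.IsStableUnderBaseChange.respectsIso
    change finLocFreeOfDeg r q.left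
    rw [h4]
    exact MorphismProperty.RespectsIso.precomp _ _ _ h3

end K623.DegStrat
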