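import Groth.Agent.AlgSp.K619.IntCover
import Groth.Agent.AlgSp.K651.Sigma

/-!
# Integral surjective covers which are étale over a dense open

* `EtO g O`, `IntO g O`: the morphism `g` is étale (integral) over the subset `O` of the points of the target.
* `isOpen_diff_range`: the image of a morphism integral over the open `O` is closed in `O`.
* `cov_of_GEX`: for an affine étale surjective chart `a : h_U ⟶ X` integral over the dense open `O` there is an
  integral surjective `g : h_Y ⟶ X` from a scheme, factoring Zariski locally through `a`, and étale over `O`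
  (the induction of `K619.IntCover` with control over `O`).
-/

set_option autoImplicit false
universe u
open CategoryTheory CategoryTheory.Limits AlgebraicGeometry Opposite AlgSp

namespace K623.IntEt

open K617.EtFin K617.Strat K619.IntCover

variable {S : Scheme.{u}}

/-- `g` is étale over the subset `O` of `|X|`. -/
def EtO {Y X : Sp S} (g : Y ⟶ X) (O : Set (Points X)) : Prop :=
  ∀ ⦃T : Over S⦄ (v : (yon S).obj T ⟶ Y), RepWith @Etale v → (∀ t, Points.ofPt (v ≫ g) t ∈ O) →
    RepWith @Etale (v ≫ g)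

/-- `g` is integral over the subset `O` of `|X|`. -/
def IntO {Y X : Sp S} (g : Y ⟶ X) (O : Set (Points X)) : Prop :=
  ∀ ⦃T Q : Over S⦄ (t : (yon S).obj T ⟶ X), (∀ x, Points.ofPt t x ∈ O) → ∀ (fst : (yon S).obj Q ⟶ Y) (snd : Q ⟶ T),
    IsPullback fst ((yon S).map snd) g t → IsIntegralHom snd.left

theorem EtO.of_etale {Y X : Sp S} {g : Y ⟶ X} (h : RepWith @Etale g) (O : Set (Points X)) : EtO g O :=
  fun _ v hv _ => MorphismProperty.comp_mem _ v g hv h

theorem EtO.comp {Z Y X : Sp S} {f : Z ⟶ Y} {g : Y ⟶ X} {O : Set (Points X)} (hf : EtO f (Points.map g ⁻¹' O))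
    (hg : EtO g O) : EtO (f ≫ g) O := by
  intro T v hv hO
  rw [← Category.assoc] at hO ⊢
  exact hg _ (hf v hv hO) hO

theorem IntO.of_int {Y X : Sp S} {g : Y ⟶ X} (h : RepWith @IsIntegralHom g) (O : Set (Points X)) : IntO g O :=
  fun _ _ _ _ _ _ sq => h.2 _ _ _ sq

/-- Cancellation: the morphism `ν` is integral. -/
theorem IntO.of_comp {Z Y X : Sp S} {f : Z ⟶ Y} {g : Y ⟶ X} {O : Set (Points X)} (hf : Representable f)
    (hg : RepWith @IsIntegralHom g) (h : IntO (f ≫ g) O) : IntO f (Points.map g ⁻¹' O) := by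
  intro T Q t ht fst snd sq
  obtain ⟨Y', r, k, sqY⟩ := hg.1 (t ≫ g)
  obtain ⟨Q', s, l, sqQ⟩ := hf k
  have h1 : IsIntegralHom r.left := hg.2 _ _ _ sqY
  have h2 : IsPullback l ((yon S).map (s ≫ r)) (f ≫ g) (t ≫ g) := by
    rw [Functor.map_comp]
    exact (sqQ.flip.paste_horiz sqY.flip).flip
  have h3 : IsIntegralHom (s ≫ r).left := h (t ≫ g) (fun x => ht x) _ _ h2
  rw [Over.comp_left] at h3
  have h4 : IsIntegralHom s.left := IsIntegralHom.of_comp s.left r.left
  obtain ⟨σ, hσ⟩ := (yon S).map_surjective (sqY.lift t (𝟙 _) (by rw [Category.id_comp]))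
  have hσ1 : (yon S).map σ ≫ k = t := by rw [hσ, sqY.lift_fst]
  obtain ⟨m, hm⟩ := (yon S).map_surjective (sqQ.lift fst ((yon S).map snd ≫ (yon S).map σ) (by
    rw [Category.assoc, hσ1, sq.w]))
  have sq3 : IsPullback m.left snd.left s.left σ.left := by
    have h5 : IsPullback ((yon S).map m) ((yon S).map snd) ((yon S).map s) ((yon S).map σ) := by
      refine IsPullback.of_right (h₁₂ := l) (h₂₂ := k) (v₁₃ := f) ?_ ?_ sqQ
      · rw [hm, sqQ.lift_fst, hσ1]
        exact sq
      · rw [hm, sqQ.lift_snd]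
    exact K615.Int.isPullback_left (K615.Int.isPullback_of_yon h5)
  exact MorphismProperty.of_isPullback (P := @IsIntegralHom) sq3 h4

theorem IntO.precomp {X : Sp S} {W U : Over S} {a : (yon S).obj U ⟶ X} {O : Set (Points X)}
    (ha : Representable a) (h : IntO a O) (m : W ⟶ U) (hm : IsIntegralHom m.left) :
    IntO ((yon S).map m ≫ a) O := by
  intro T Q t ht fst snd sq
  obtain ⟨U', s, l, sqU⟩ := ha t
  obtain ⟨l, rfl⟩ := (yon S).map_surjective l
  have h1 : IsIntegralHom s.left := h t ht _ _ sqU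
  obtain ⟨fst, rfl⟩ := (yon S).map_surjective fst
  obtain ⟨n, hn⟩ := (yon S).map_surjective (sqU.lift ((yon S).map fst ≫ (yon S).map m) ((yon S).map snd) (by
    rw [Category.assoc, sq.w]))
  have hn1 : n ≫ l = fst ≫ m := (yon S).map_injective (by
    rw [Functor.map_comp, hn, sqU.lift_fst, Functor.map_comp])
  have hn2 : n ≫ s = snd := (yon S).map_injective (by rw [Functor.map_comp, hn, sqU.lift_snd])
  have h3 : IsPullback ((yon S).map n) ((yon S).map fst) ((yon S).map l) ((yon S).map m) := by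
    refine IsPullback.of_right (h₁₂ := (yon S).map s) (h₂₂ := a) (v₁₃ := t) ?_ ?_ sqU.flip
    · rw [← Functor.map_comp, hn2]
      exact sq.flip
    · rw [← Functor.map_comp, ← Functor.map_comp, hn1]
  have h4 := K615.Int.isPullback_left (K615.Int.isPullback_of_yon h3)
  have h5 : IsIntegralHom n.left := MorphismProperty.of_isPullback (P := @IsIntegralHom) h4.flip hm
  rw [← hn2, Over.comp_left]
  infer_instance

theorem IntO.of_mono {V Y F : Sp S} {b : F ⟶ V} (i : V ⟶ Y) [Mono i] {O : Set (Points Y)}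
    (h : IntO (b ≫ i) O) : IntO b (Points.map i ⁻¹' O) := by
  intro T Q t ht fst snd sq
  have h1 : IsPullback fst ((yon S).map snd) (b ≫ i) (t ≫ i) :=
    ⟨⟨by rw [← Category.assoc, sq.w, Category.assoc]⟩,
      ⟨PullbackCone.isLimitOfCompMono b t i _ sq.isLimit⟩⟩
  exact h (t ≫ i) (fun x => ht x) _ _ h1

/-- The image of a morphism integral over the open `O` is closed in `O`. -/
theorem isOpen_diff_range {F Y : Sp S} {f : F ⟶ Y} (hf : Representable f) {O : Set (Points Y)} (hO : IsOpen O)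
    (hI : IntO f O) : IsOpen (O \ Set.range (Points.map f)) := by
  rw [Points.isOpen_iff]
  intro T g
  let O' : T.left.Opens := ⟨Points.ofPt g ⁻¹' O, hO.preimage (Points.continuous_ofPt g)⟩
  let T' : Over S := Over.mk (O'.ι ≫ T.hom)
  let i : T' ⟶ T := Over.homMk O'.ι rfl
  obtain ⟨Q, s, l, sq⟩ := hf ((yon S).map i ≫ g)
  have h1 : IsIntegralHom s.left := hI _ (fun x => by
    rw [K610.Base.ofPt_map_comp]
    exact x.2) _ _ sq
  have h2 : Points.ofPt g ⁻¹' (O \ Set.range (Points.map f)) = i.left '' (Set.range s.left)ᶜ := by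
    ext t
    constructor
    · rintro ⟨ht, ht'⟩
      refine ⟨⟨t, ht⟩, ?_, rfl⟩
      rintro ⟨z, hz⟩
      apply ht'
      refine ⟨Points.ofPt l z, ?_⟩
      rw [← K610.Base.ofPt_comp, sq.w, K610.Base.ofPt_map_comp, hz, K610.Base.ofPt_map_comp]
      rfl
    · rintro ⟨x, hx, rfl⟩
      refine ⟨x.2, ?_⟩
      rintro ⟨z, hz⟩
      obtain ⟨v, -, hv⟩ := K610.Base.exists_of_isPullback_yon sq z x (by
        rw [K610.Base.ofPt_map_comp]
        exact hz)
      exact hx ⟨v, hv⟩
  rw [h2]
  exact O'.ι.isOpenEmbedding.isOpenMap _ s.left.isClosedMap.isClosed_range.isOpen_compl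

/-- An open immersion with closed image is a closed immersion. -/
theorem repWith_closed_of_open {F G : Sp S} {f : F ⟶ G} (hf : RepWith @IsOpenImmersion f)
    (hc : IsClosed (Set.range (Points.map f))) : RepWith @IsClosedImmersion f := by
  refine ⟨hf.1, fun T V g fst snd sq => ?_⟩
  have h1 : IsOpenImmersion snd.left := hf.2 _ _ _ sq
  change IsClosedImmersion snd.left
  refine IsClosedImmersion.of_isPreimmersion snd.left ?_
  have h2 : Set.range snd.left = Points.ofPt g ⁻¹' Set.range (Points.map f) := by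
    ext t
    constructor
    · rintro ⟨v, rfl⟩
      refine ⟨Points.ofPt fst v, ?_⟩
      rw [← K610.Base.ofPt_comp, sq.w, K610.Base.ofPt_map_comp]
    · rintro ⟨z, hz⟩
      obtain ⟨v, -, hv⟩ := K610.Base.exists_of_isPullback_yon sq z t hz
      exact ⟨v, hv⟩
  rw [h2]
  exact hc.preimage (Points.continuous_ofPt g)

open K636.Decomp in
/-- Étaleness over `O` for morphisms from a coproduct of two schemes. -/
theorem etO_cop {X : Sp S} (hX : IsAlgSpace X) {A B : Over S} (g : (yon S).obj (cop A B) ⟶ X)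
    {O : Set (Points X)} (hA : EtO ((yon S).map (copl A B) ≫ g) O) (hB : EtO ((yon S).map (copr A B) ≫ g) O) :
    EtO g O := by
  intro T v hv hO
  obtain ⟨v, rfl⟩ := (yon S).map_surjective v
  have hv' : Etale v.left := (repWith_yon_map_iff @Etale v).1 hv
  have ol : IsOpenImmersion (copl A B).left :=
    inferInstanceAs (IsOpenImmersion (coprod.inl : A.left ⟶ A.left ⨿ B.left))
  have or : IsOpenImmersion (copr A B).left :=
    inferInstanceAs (IsOpenImmersion (coprod.inr : B.left ⟶ A.left ⨿ B.left))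
  -- the part of `T` over one summand
  have key : ∀ (C : Over S) (c : C ⟶ cop A B), IsOpenImmersion c.left → EtO ((yon S).map c ≫ g) O →
      ∃ (P : Over S) (p : P ⟶ T), IsOpenImmersion p.left ∧ RepWith @Etale ((yon S).map p ≫ (yon S).map v ≫ g) ∧
        ∀ (t : T.left) (x : C.left), c.left x = v.left t → ∃ y : P.left, p.left y = t := by
    intro C c hc hE
    have sq := IsPullback.of_hasPullback c v
    have sq' := K615.Int.isPullback_left sq
    have e1 : (yon S).map (pullback.snd c v) ≫ (yon S).map v ≫ g =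
        (yon S).map (pullback.fst c v) ≫ (yon S).map c ≫ g := by
      rw [← Category.assoc, ← Functor.map_comp, ← sq.w, Functor.map_comp, Category.assoc]
    refine ⟨pullback c v, pullback.snd c v, MorphismProperty.of_isPullback (P := @IsOpenImmersion) sq' hc, ?_, ?_⟩
    · rw [e1]
      refine hE _ ((repWith_yon_map_iff @Etale _).2
        (MorphismProperty.of_isPullback (P := @Etale) sq'.flip hv')) fun t => ?_
      rw [← e1, K610.Base.ofPt_map_comp]
      exact hO _
    · intro t x hx
      obtain ⟨y, -, hy⟩ := K610.Base.exists_of_isPullback_charts (K615.Int.isPullback_yon sq) x t (by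
        rw [K609.Points.ofPt_yon_map, K609.Points.ofPt_yon_map, hx])
      exact ⟨y, hy⟩
  obtain ⟨PA, pA, hpA, heA, hsA⟩ := key A (copl A B) ol hA
  obtain ⟨PB, pB, hpB, heB, hsB⟩ := key B (copr A B) or hB
  refine K651.Sigma.etale_of_openCover hX.diag _ (ι := ULift.{u} Bool) (fun i => if i.down then PA else PB)
    (fun i => match i with
      | ⟨true⟩ => pA
      | ⟨false⟩ => pB) (fun i => ?_) (fun t => ?_) (fun i => ?_)
  · rcases i with ⟨_ | _⟩
    · exact hpB
    · exact hpA
  · have hcov : v.left t ∈ Set.range (copl A B).left ∨ v.left t ∈ Set.range (copr A B).left :=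
      (isCompl_range_inl_inr A.left B.left).codisjoint.top_le (Set.mem_univ _)
    rcases hcov with ⟨x, hx⟩ | ⟨x, hx⟩
    · obtain ⟨y, hy⟩ := hsA t x hx
      exact ⟨⟨true⟩, y, hy⟩
    · obtain ⟨y, hy⟩ := hsB t x hx
      exact ⟨⟨false⟩, y, hy⟩
  · rcases i with ⟨_ | _⟩
    · exact heB
    · exact heA

/-- There is an integral surjective map from a scheme, étale over `O`, which factors Zariski locally through `a`. -/
def CovO {X : Sp S} {U : Over S} (a : (yon S).obj U ⟶ X) (O : Set (Points X)) : Prop :=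
  ∃ (Y : Over S) (g : (yon S).obj Y ⟶ X), RepWith @IsIntegralHom g ∧ RepWith @Surjective g ∧ LF a g ∧ EtO g O

theorem covO_of_GEX_one {X : Sp S} {U : Over S} {a : (yon S).obj U ⟶ X} (ha : RepWith @Etale a)
    (has : RepWith @Surjective a) (hG : GEX a 1 = ∅) (O : Set (Points X)) : CovO a O := by
  have h1 : ∀ x : Points X, False := fun x => by
    rw [GEX_one a ha.1] at hG
    obtain ⟨u, rfl⟩ := K610.Base.surjective_ofPt has x
    exact Set.eq_empty_iff_forall_notMem.1 hG _ ⟨u, rfl⟩
  refine ⟨U, a, ⟨ha.1, fun T V g fst snd sq => ?_⟩, has, fun y => (h1 (Points.ofPt a y)).elim,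
    EtO.of_etale ha O⟩
  have h2 : IsEmpty ↥T.left := ⟨fun t => h1 (Points.ofPt g t)⟩
  have h3 : IsIso snd.left := isIso_of_isEmpty _
  change IsIntegralHom snd.left
  infer_instance

/-- Over `O` the normalization agrees with the chart. -/
theorem preimage_subset {X Y : Sp S} {U : Over S} {a : (yon S).obj U ⟶ X} {ν : Y ⟶ X} {j : (yon S).obj U ⟶ Y}
    (hjν : j ≫ ν = a) (hν : RepWith @IsIntegralHom ν) (hj : Representable j)
    (hd : closure (Set.range (Points.map j)) = Set.univ) {O : Set (Points X)} (hO : IsOpen O) (hOi : IntO a O) :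
    Points.map ν ⁻¹' O ⊆ Set.range (Points.map j) := by
  subst hjν
  have h1 := isOpen_diff_range hj (hO.preimage (Points.continuous_map ν)) (IntO.of_comp hj hν hOi)
  by_contra hne
  obtain ⟨y, hy, hy'⟩ := Set.not_subset.1 hne
  have h2 : y ∈ closure (Set.range (Points.map j)) := by rw [hd]; trivial
  obtain ⟨y', hy1, hy2⟩ := mem_closure_iff.1 h2 _ h1 ⟨hy, hy'⟩
  exact hy1.2 hy2

theorem dense_preimage {X Y : Sp S} {U : Over S} {a : (yon S).obj U ⟶ X} {ν : Y ⟶ X} {j : (yon S).obj U ⟶ Y}
    (hjν : j ≫ ν = a) (ha : RepWith @Etale a) (hd : closure (Set.range (Points.map j)) = Set.univ)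
    {O : Set (Points X)} (hO : Dense O) : Dense (Points.map ν ⁻¹' O) := by
  have h1 : Dense (Points.ofPt a ⁻¹' O) := hO.preimage (K610.Base.isOpenMap_ofPt_etale ha)
  have h2 : DenseRange (Points.ofPt j) := by
    rw [DenseRange, K610.SchLocus.range_ofPt, dense_iff_closure_eq, hd]
  have h3 : Dense (Points.ofPt j '' (Points.ofPt a ⁻¹' O)) := h2.dense_image (Points.continuous_ofPt j) h1
  refine h3.mono ?_
  rintro _ ⟨u, hu, rfl⟩
  rw [Set.mem_preimage, ← K610.Base.ofPt_comp, hjν]
  exact hu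

theorem isIntegralHom_of_split {Y : Sp S} {U P W : Over S} {q : (yon S).obj P ⟶ Y} (γ : U ⟶ P) (w : W ⟶ P)
    (hq : RepWith @Etale q) (hj : RepWith @IsOpenImmersion ((yon S).map γ ≫ q)) (hw : IsOpenImmersion w.left)
    (hdis : Disjoint (Set.range γ.left) (Set.range w.left))
    (hcov : ∀ x : P.left, x ∈ Set.range γ.left ∨ x ∈ Set.range w.left) : IsIntegralHom w.left := by
  have he : Etale γ.left := K613.Diag.etale_of_comp γ hq (K610.OpenImm.repWith_etale_of_open hj) rfl
  have h1 : Set.range w.left = (Set.range γ.left)ᶜ := by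
    ext x
    constructor
    · intro hx hx'
      exact Set.disjoint_left.1 hdis hx' hx
    · intro hx
      exact (hcov x).resolve_left hx
  have h2 : IsClosed (Set.range w.left) := by
    rw [h1, isClosed_compl_iff]
    exact γ.left.isOpenMap.isOpen_range
  have h3 : IsClosedImmersion w.left := .of_isPreimmersion _ h2
  infer_instance

/-- Adding to `h : h_Z ⟶ V` the open subspace `T`. -/
theorem exists_add [QuasiSeparatedSpace ↥S] {Y : Sp S} (hY : IsAlgSpace Y) (hYqs : IsQuasiSeparatedSp Y)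
    {U : Over S} {j : (yon S).obj U ⟶ Y}
    (hj : RepWith @IsOpenImmersion j) {V : Sp S} {i : V ⟶ Y} (hi : RepWith @IsOpenImmersion i)
    (hVc : IsQuasiCompactSp V)
    {Z : Over S} {h : (yon S).obj Z ⟶ V} (hh : RepWith @IsIntegralHom h) {T : Set (Points Y)} (hT : IsOpen T)
    (hTj : T ⊆ Set.range (Points.map j)) (hTi : Disjoint T (Set.range (Points.map i)))
    (hTc : IsCompact (Points.ofPt j ⁻¹' T)) :
    ∃ (G : Sp S) (iG : G ⟶ Y) (T₀ : Over S) (ι₀ : T₀ ⟶ U) (g : (yon S).obj (K636.Decomp.cop Z T₀) ⟶ G),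
      IsAlgSpace G ∧ RepWith @IsOpenImmersion iG ∧ Set.range (Points.map iG) = Set.range (Points.map i) ∪ T ∧
      IsQuasiCompactMor iG ∧ IsOpenImmersion ι₀.left ∧
      Set.range (Points.map ((yon S).map ι₀ ≫ j)) = T ∧
      RepWith @IsIntegralHom g ∧ (yon S).map (K636.Decomp.copl Z T₀) ≫ g ≫ iG = h ≫ i ∧
      (yon S).map (K636.Decomp.copr Z T₀) ≫ g ≫ iG = (yon S).map ι₀ ≫ j := by
  have hri : IsOpen (Set.range (Points.map i)) := (K610.OpenImm.isOpenEmbedding_points hY hi).isOpen_range
  -- the scheme `T₀`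
  let OT : U.left.Opens := ⟨Points.ofPt j ⁻¹' T, hT.preimage (Points.continuous_ofPt j)⟩
  let T₀ : Over S := Over.mk (OT.ι ≫ U.hom)
  let ι₀ : T₀ ⟶ U := Over.homMk OT.ι rfl
  have hι₀ : IsOpenImmersion ι₀.left := inferInstanceAs (IsOpenImmersion OT.ι)
  have ht₀ : RepWith @IsOpenImmersion ((yon S).map ι₀ ≫ j) :=
    MorphismProperty.comp_mem _ _ _ ((repWith_yon_map_iff _ _).2 hι₀) hj
  have hrt : Set.range (Points.map ((yon S).map ι₀ ≫ j)) = T := by
    rw [← K610.SchLocus.range_ofPt]
    ext y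
    constructor
    · rintro ⟨t, rfl⟩
      rw [K610.Base.ofPt_map_comp]
      exact t.2
    · intro hy
      obtain ⟨u, rfl⟩ : y ∈ Set.range (Points.ofPt j) := by
        rw [K610.SchLocus.range_ofPt]
        exact hTj hy
      exact ⟨⟨u, hy⟩, K610.Base.ofPt_map_comp _ _ _⟩
  -- the open subspace `G`
  obtain ⟨G, iG, hiG, hrG⟩ := K610.Sub.exists_open_subspace (⟨Y, hY⟩ : Space S)
    (Set.range (Points.map i) ∪ T) (hri.union hT)
  have hmG : Mono iG.hom := K610.Factor.mono_of_isOpenImmersion hiG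
  have hinj : Function.Injective (Points.map iG.hom) := (K610.OpenImm.isOpenEmbedding_points hY hiG).injective
  obtain ⟨vG, hvG⟩ := (K610.Factor.factors_open_iff hiG i).2 (by rw [hrG]; exact Set.subset_union_left)
  obtain ⟨tG, htG⟩ := (K610.Factor.factors_open_iff hiG ((yon S).map ι₀ ≫ j)).2 (by
    rw [hrG, hrt]; exact Set.subset_union_right)
  have hvo : RepWith @IsOpenImmersion vG := K610.OpenImm.repWith_of_comp_mono (j := iG.hom) (by rw [hvG]; exact hi)
  have hto : RepWith @IsOpenImmersion tG := K610.OpenImm.repWith_of_comp_mono (j := iG.hom) (by rw [htG]; exact ht₀)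
  have hrange : ∀ {F : Sp S} (f : F ⟶ G.obj), Set.range (Points.map f) =
      Points.map iG.hom ⁻¹' (Set.range (Points.map (f ≫ iG.hom))) := by
    intro F f
    ext x
    constructor
    · rintro ⟨z, rfl⟩
      exact ⟨z, Points.map_comp _ _ _⟩
    · rintro ⟨z, hz⟩
      refine ⟨z, hinj ?_⟩
      rw [← hz, Points.map_comp]
  have hcG : ∀ x : Points G.obj, Points.map iG.hom x ∈ Set.range (Points.map i) ∪ T := fun x => by
    rw [← hrG]; exact ⟨x, rfl⟩
  have hvc : RepWith @IsClosedImmersion vG := repWith_closed_of_open hvo (by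
    rw [hrange, hvG, ← isOpen_compl_iff]
    convert hT.preimage (Points.continuous_map iG.hom) using 1
    ext x
    constructor
    · intro hx
      exact (hcG x).resolve_left hx
    · intro hx hx'
      exact Set.disjoint_left.1 hTi hx hx')
  have htc : RepWith @IsClosedImmersion tG := repWith_closed_of_open hto (by
    rw [hrange, htG, hrt, ← isOpen_compl_iff]
    convert hri.preimage (Points.continuous_map iG.hom) using 1
    ext x
    constructor
    · intro hx
      exact (hcG x).resolve_right hx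
    · intro hx hx'
      exact Set.disjoint_left.1 hTi hx' hx)
  -- `G` is quasi-compact
  have hGc : IsQuasiCompactSp G.obj := by
    have h1 : IsCompact (Set.range (Points.map i) ∪ T) := by
      have := K609.QC.compactSpace_points hVc
      refine (isCompact_range (Points.continuous_map i)).union ?_
      have h2 : Points.ofPt j '' (Points.ofPt j ⁻¹' T) = T := by
        rw [Set.image_preimage_eq_iff, K610.SchLocus.range_ofPt]
        exact hTj
      rw [← h2]
      exact hTc.image (Points.continuous_ofPt j)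
    have h3 : CompactSpace (Points G.obj) := by
      rw [← hrG, ← Set.image_univ] at h1
      exact ⟨(K610.OpenImm.isOpenEmbedding_points hY hiG).isInducing.isCompact_iff.2 h1⟩
    exact K609.QC.isQuasiCompactSp_of_compactSpace G.property
  have hA : RepWith @IsIntegralHom (h ≫ vG) := MorphismProperty.comp_mem _ _ _ hh
    (K610.Base.repWith_mono (fun _ _ f (_ : IsClosedImmersion f) => (inferInstance : IsIntegralHom f)) hvc)
  have hB : RepWith @IsIntegralHom tG :=
    K610.Base.repWith_mono (fun _ _ f (_ : IsClosedImmersion f) => (inferInstance : IsIntegralHom f)) htc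
  obtain ⟨g, hg1, hg2, hg⟩ := K619.IntSum.exists_cop G.property hA hB
  refine ⟨G.obj, iG.hom, T₀, ι₀, g, G.property, hiG, hrG,
    K596.QC2.isQuasiCompactMor_of_qc_of_qs G.property hY iG.hom hGc hYqs, hι₀, hrt, hg, ?_, ?_⟩
  · rw [← Category.assoc, hg1, Category.assoc, hvG]
  · rw [← Category.assoc, hg2, htG]

/-- Étaleness over `O` of an extension. -/
theorem etO_of_ext {Y G E Z' : Sp S} {iG : G ⟶ Y} (hiG : RepWith @IsOpenImmersion iG)
    {g : E ⟶ G} {k : E ⟶ Z'} {μ : Z' ⟶ Y} (sq : IsPullback k g μ iG) {O : Set (Points Y)}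
    (hO : O ⊆ Set.range (Points.map iG)) (hE : EtO (g ≫ iG) O) : EtO μ O := by
  intro T v hv hvO
  obtain ⟨v₁, hv₁⟩ := (K610.Factor.factors_open_iff hiG (v ≫ μ)).2 (by
    rw [← K610.SchLocus.range_ofPt]
    rintro _ ⟨t, rfl⟩
    exact hO (hvO t))
  have hk : RepWith @IsOpenImmersion k := MorphismProperty.of_isPullback (P := RepWith @IsOpenImmersion) sq.flip hiG
  have hkm : Mono k := K610.Factor.mono_of_isOpenImmersion hk
  have h1 : sq.lift v v₁ hv₁.symm ≫ k = v := sq.lift_fst _ _ _
  have h2 : sq.lift v v₁ hv₁.symm ≫ g = v₁ := sq.lift_snd _ _ _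
  have h3 : RepWith @Etale (sq.lift v v₁ hv₁.symm) := K610.OpenImm.repWith_of_comp_mono (j := k) (by rw [h1]; exact hv)
  have h4 : sq.lift v v₁ hv₁.symm ≫ g ≫ iG = v ≫ μ := by rw [← Category.assoc, h2, hv₁]
  rw [← h4]
  exact hE _ h3 fun t => by rw [h4]; exact hvO t

theorem etO_norm {X Y : Sp S} {U : Over S} {a : (yon S).obj U ⟶ X} {ν : Y ⟶ X} {j : (yon S).obj U ⟶ Y}
    (hjν : j ≫ ν = a) (ha : RepWith @Etale a) (hj : RepWith @IsOpenImmersion j) {O : Set (Points X)}
    (hO : Points.map ν ⁻¹' O ⊆ Set.range (Points.map j)) : EtO ν O := by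
  intro T v hv hvO
  have hm : Mono j := K610.Factor.mono_of_isOpenImmersion hj
  obtain ⟨v', hv'⟩ := K610.Factor.exists_lift_open hj v (by
    rintro _ ⟨t, rfl⟩
    exact hO (hvO t))
  have h1 : RepWith @Etale v' := K610.OpenImm.repWith_of_comp_mono (j := j) (by rw [hv']; exact hv)
  have h2 : v ≫ ν = v' ≫ a := by rw [← hv', Category.assoc, hjν]
  rw [h2]
  exact MorphismProperty.comp_mem _ _ _ h1 ha

theorem covO_step [QuasiSeparatedSpace ↥S] (n : ℕ)
    (IH : ∀ {V : Sp S} {W : Over S} {w : (yon S).obj W ⟶ V} {O : Set (Points V)}, IsAlgSpace V →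
      IsQuasiSeparatedSp V → IsAffine W.left → RepWith @Etale w → RepWith @Surjective w → GEX w n = ∅ →
      IsOpen O → Dense O → IsCompact (Points.ofPt w ⁻¹' O) → IntO w O → CovO w O)
    {X : Sp S} {U : Over S} {a : (yon S).obj U ⟶ X} (hX : IsAlgSpace X) (hqs : IsQuasiSeparatedSp X)
    (hU : IsAffine U.left) (ha : RepWith @Etale a) (has : RepWith @Surjective a) (hG : GEX a (n + 1) = ∅)
    {O : Set (Points X)} (hO : IsOpen O) (hOd : Dense O) (hOc : IsCompact (Points.ofPt a ⁻¹' O))
    (hOi : IntO a O) : CovO a O := by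
  obtain ⟨Y, ν, j, hY, hν, hjν, hj, hd⟩ := exists_norm hX hqs hU ha
  obtain ⟨P, W, p, q, γ, w, sq, hq, hqs', hγ, hw, hW, hdis, hcovP⟩ :=
    K619.SplitOff.exists_split hU ha has hν hjν hj
  subst hγ
  have hνr : RepWith @IsIntegralHom ν := K617.FinLoc.isIntegralMor_iff.1 hν
  have hG' := GEX_comp_eq_empty γ w sq hq hU ha hj hd hw hdis hG
  have hw' : RepWith @IsOpenImmersion ((yon S).map w) := (repWith_yon_map_iff _ _).2 hw
  have hwq : RepWith @Etale ((yon S).map w ≫ q) :=
    MorphismProperty.comp_mem _ _ _ (K610.OpenImm.repWith_etale_of_open hw') hq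
  obtain ⟨V, i, b, hi, hri, hbi, hb, hbs⟩ := K611.exists_image (⟨Y, hY⟩ : Space S) ((yon S).map w ≫ q) hwq
  have hYqs : IsQuasiSeparatedSp Y :=
    K605.ImmMain.isQuasiSeparatedSp_of_mor (K616.Norm.isQuasiSeparatedMor_of_isIntegralMor hν) hqs
  have hVqs : IsQuasiSeparatedSp V.obj := isQuasiSeparatedSp_of_open hi hYqs
  have hGb : GEX b n = ∅ := by
    refine Set.eq_empty_of_forall_notMem fun v hv => ?_
    have h1 := K619.GEStep.map_mem_GEX_comp (i := i.hom) hv
    rw [hbi, hG'] at h1
    exact h1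
  have hVqc : IsQuasiCompactSp V.obj := ⟨W, b, hb, hbs, inferInstance⟩
  -- the preimage of `O` in `Y`
  have hO'o : IsOpen (Points.map ν ⁻¹' O) := hO.preimage (Points.continuous_map ν)
  have hO'j := preimage_subset hjν hνr hj.1 hd hO hOi
  have hO'd := dense_preimage hjν ha hd hOd
  have hwint := isIntegralHom_of_split γ w hq hj hw hdis hcovP
  have hpint : IsIntegralHom p.left := hνr.2 _ _ _ sq.flip
  have hwqi : IntO ((yon S).map w ≫ q) (Points.map ν ⁻¹' O) := by
    refine IntO.of_comp hwq.1 hνr ?_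
    have e1 : ((yon S).map w ≫ q) ≫ ν = (yon S).map (w ≫ p) ≫ a := by
      rw [Functor.map_comp, Category.assoc, Category.assoc, sq.w]
    rw [e1]
    refine IntO.precomp ha.1 hOi (w ≫ p) ?_
    rw [Over.comp_left]
    infer_instance
  have hmi : Mono i.hom := K610.Factor.mono_of_isOpenImmersion hi
  have hbO : IntO b (Points.map i.hom ⁻¹' (Points.map ν ⁻¹' O)) :=
    IntO.of_mono i.hom (by rw [hbi]; exact hwqi)
  have hiemb := K610.OpenImm.isOpenEmbedding_points hY hi
  have hbc : IsCompact (Points.ofPt b ⁻¹' (Points.map i.hom ⁻¹' (Points.map ν ⁻¹' O))) := by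
    have e2 : Points.ofPt b ⁻¹' (Points.map i.hom ⁻¹' (Points.map ν ⁻¹' O)) =
        (w ≫ p).left ⁻¹' (Points.ofPt a ⁻¹' O) := by
      ext x
      have e3 : Points.map ν (Points.map i.hom (Points.ofPt b x)) = Points.ofPt a ((w ≫ p).left x) := by
        rw [← K610.Base.ofPt_comp, ← K610.Base.ofPt_comp, hbi, ← K610.Base.ofPt_map_comp (w ≫ p) a,
          Functor.map_comp, Category.assoc, Category.assoc, sq.w]
      rw [Set.mem_preimage, Set.mem_preimage, Set.mem_preimage, Set.mem_preimage, Set.mem_preimage, e3]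
    rw [e2]
    have h1 : QuasiCompact (w ≫ p).left := by
      rw [Over.comp_left]
      infer_instance
    exact QuasiCompact.isCompact_preimage (f := (w ≫ p).left) _ (hO.preimage (Points.continuous_ofPt a)) hOc
  obtain ⟨Z, h, hh, hhs, hLF, hEt⟩ := IH V.property hVqs hW hb hbs hGb
    (hO'o.preimage (Points.continuous_map i.hom)) (hO'd.preimage hiemb.isOpenMap) hbc hbO
  -- the part of the preimage of `O` outside `V`
  have hTo : IsOpen ((Points.map ν ⁻¹' O) \ Set.range (Points.map i.hom)) := by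
    have h1 := isOpen_diff_range hwq.1 hO'o hwqi
    rwa [← K610.SchLocus.range_ofPt, ← hri] at h1
  have hTc : IsCompact (Points.ofPt ((yon S).map γ ≫ q) ⁻¹'
      ((Points.map ν ⁻¹' O) \ Set.range (Points.map i.hom))) := by
    have e3 : Points.ofPt ((yon S).map γ ≫ q) ⁻¹' (Points.map ν ⁻¹' O) = Points.ofPt a ⁻¹' O := by
      ext u
      rw [Set.mem_preimage, Set.mem_preimage, Set.mem_preimage, ← K610.Base.ofPt_comp, hjν]
    rw [Set.preimage_sdiff, e3]
    exact hOc.diff (hiemb.isOpen_range.preimage (Points.continuous_ofPt _))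
  obtain ⟨G, iG, T₀, ι₀, gE, hGa, hiG, hrG, hiGq, hι₀, hrt, hgE, hl, hr⟩ :=
    exists_add hY hYqs hj hi hVqc hh hTo (Set.sdiff_subset.trans hO'j) Set.disjoint_sdiff_left hTc
  obtain ⟨Z', μ, k, hZ', hμ, sqZ⟩ := K619.ExtInt.exists_ext hY hGa hiG hiGq (K617.FinLoc.isIntegralMor_iff.2 hgE)
  -- `Y` is covered by `G` and `U`
  have hcovY : ∀ y : Points Y, y ∈ Set.range (Points.map iG) ∨
      y ∈ Set.range (Points.map ((yon S).map γ ≫ q)) := by
    intro y
    obtain ⟨x, rfl⟩ := K610.Base.surjective_ofPt hqs' y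
    rcases hcovP x with ⟨u, rfl⟩ | ⟨x', rfl⟩
    · right
      rw [← K610.SchLocus.range_ofPt]
      exact ⟨u, K610.Base.ofPt_map_comp γ q u⟩
    · left
      rw [hrG, hri]
      exact Or.inl ⟨x', K610.Base.ofPt_map_comp w q x'⟩
  obtain ⟨H, Q, e, k₀, f₀, r, hk₀, hf₀, hk₀o, hf₀o, hcovH⟩ :=
    isRepresentable_of_cover hU hj hiG hcovY hZ' hμ sqZ
  have hO'G : Points.map ν ⁻¹' O ⊆ Set.range (Points.map iG) := by
    rw [hrG]
    intro y hy
    by_cases hyi : y ∈ Set.range (Points.map i.hom)
    · exact Or.inl hyi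
    · exact Or.inr ⟨hy, hyi⟩
  have hμr : RepWith @IsIntegralHom μ := K617.FinLoc.isIntegralMor_iff.1 hμ
  -- `μ` is surjective
  have hlift : ∀ {C : Over S} (c : (yon S).obj C ⟶ (yon S).obj (K636.Decomp.cop Z T₀)) (z : C.left),
      Points.ofPt (c ≫ gE ≫ iG) z ∈ Set.range (Points.map μ) := by
    intro C c z
    rw [← sqZ.w]
    exact ⟨Points.ofPt (c ≫ k) z, rfl⟩
  have hμs : ∀ y : Points Y, y ∈ Set.range (Points.map μ) := by
    have h1 : IsOpen (Set.univ \ Set.range (Points.map μ)) :=
      isOpen_diff_range hμr.1 isOpen_univ (IntO.of_int hμr _)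
    by_contra hne
    push Not at hne
    obtain ⟨y, hy⟩ := hne
    obtain ⟨y', hy1, hy2⟩ := hO'd.inter_open_nonempty _ h1 ⟨y, trivial, hy⟩
    apply hy1.2
    by_cases hyi : y' ∈ Set.range (Points.map i.hom)
    · obtain ⟨v, rfl⟩ := hyi
      obtain ⟨z, rfl⟩ := K610.Base.surjective_ofPt hhs v
      rw [← K610.Base.ofPt_comp, ← hl]
      exact hlift _ z
    · have hyT : y' ∈ Set.range (Points.map ((yon S).map ι₀ ≫ (yon S).map γ ≫ q)) := by
        rw [hrt]
        exact ⟨hy2, hyi⟩
      rw [← K610.SchLocus.range_ofPt] at hyT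
      obtain ⟨t, rfl⟩ := hyT
      rw [← hr]
      exact hlift _ t
  have hei : RepWith @IsOpenImmersion e.hom := K610.SchLocus.repWith_iso e
  refine ⟨H, e.hom ≫ μ ≫ ν, ?_, ?_, ?_, ?_⟩
  · exact MorphismProperty.comp_mem _ _ _ (MorphismProperty.of_isIso (P := RepWith @IsIntegralHom) _)
      (MorphismProperty.comp_mem _ _ _ hμr hνr)
  · refine K610.Base.repWith_surjective_of_points ?_ ?_
    · exact (MorphismProperty.comp_mem (RepWith @IsIntegralHom) _ _
        (MorphismProperty.of_isIso (P := RepWith @IsIntegralHom) _)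
        (MorphismProperty.comp_mem _ _ _ hμr hνr)).1
    · intro x
      obtain ⟨u, rfl⟩ := K610.Base.surjective_ofPt has x
      obtain ⟨z, hz⟩ := hμs (Points.ofPt ((yon S).map γ ≫ q) u)
      refine ⟨Points.map e.inv z, ?_⟩
      rw [← Points.map_comp, e.inv_hom_id_assoc, Points.map_comp, hz, ← K610.Base.ofPt_comp, hjν]
  · intro y
    rcases hcovH y with ⟨x, rfl⟩ | ⟨z, rfl⟩
    · have hcov : x ∈ Set.range (K636.Decomp.copl Z T₀).left ∨ x ∈ Set.range (K636.Decomp.copr Z T₀).left :=
        (isCompl_range_inl_inr Z.left T₀.left).codisjoint.top_le (Set.mem_univ x)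
      have ol : IsOpenImmersion (K636.Decomp.copl Z T₀).left :=
        inferInstanceAs (IsOpenImmersion (coprod.inl : Z.left ⟶ Z.left ⨿ T₀.left))
      have or : IsOpenImmersion (K636.Decomp.copr Z T₀).left :=
        inferInstanceAs (IsOpenImmersion (coprod.inr : T₀.left ⟶ Z.left ⨿ T₀.left))
      rcases hcov with ⟨z, rfl⟩ | ⟨t, rfl⟩
      · obtain ⟨V₁, v₁, c₁, hv₁, ⟨z₁, rfl⟩, e₁⟩ := hLF z
        refine ⟨V₁, v₁ ≫ K636.Decomp.copl Z T₀ ≫ k₀, c₁ ≫ w ≫ p, ?_, ⟨z₁, ?_⟩, ?_⟩
        · rw [Over.comp_left, Over.comp_left]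
          infer_instance
        · rw [Over.comp_left, Over.comp_left, Scheme.Hom.comp_apply, Scheme.Hom.comp_apply]
        · have e2 : (yon S).map (c₁ ≫ w ≫ p) ≫ a = (yon S).map v₁ ≫ h ≫ i.hom ≫ ν := by
            rw [← Category.assoc ((yon S).map v₁), ← e₁, Category.assoc, ← Category.assoc b, hbi,
              Functor.map_comp, Functor.map_comp, Category.assoc, Category.assoc, Category.assoc, sq.w]
          have e3 : (yon S).map (v₁ ≫ K636.Decomp.copl Z T₀ ≫ k₀) ≫ e.hom ≫ μ ≫ ν =
              (yon S).map v₁ ≫ (yon S).map (K636.Decomp.copl Z T₀) ≫ k ≫ μ ≫ ν := by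
            rw [Functor.map_comp, Functor.map_comp, ← hk₀]
            simp only [Category.assoc]
          rw [e2, e3, ← Category.assoc k, sqZ.w, ← Category.assoc ((yon S).map (K636.Decomp.copl Z T₀)), hl,
            Category.assoc]
      · refine ⟨T₀, K636.Decomp.copr Z T₀ ≫ k₀, ι₀, ?_, ⟨t, ?_⟩, ?_⟩
        · rw [Over.comp_left]
          infer_instance
        · rw [Over.comp_left, Scheme.Hom.comp_apply]
        · have e3 : (yon S).map (K636.Decomp.copr Z T₀ ≫ k₀) ≫ e.hom ≫ μ ≫ ν =
              (yon S).map (K636.Decomp.copr Z T₀) ≫ k ≫ μ ≫ ν := by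
            rw [Functor.map_comp, ← hk₀]
            simp only [Category.assoc]
          rw [e3, ← Category.assoc k, sqZ.w, ← Category.assoc ((yon S).map (K636.Decomp.copr Z T₀)), hr,
            Category.assoc, hjν]
    · refine ⟨Q, f₀, r, hf₀o, ⟨z, rfl⟩, ?_⟩
      rw [← Category.assoc e.hom, ← Category.assoc ((yon S).map f₀), hf₀, Category.assoc, hjν]
  · refine EtO.comp (EtO.of_etale (K610.OpenImm.repWith_etale_of_open hei) _) (EtO.comp ?_ ?_)
    · refine etO_of_ext hiG sqZ hO'G (etO_cop hY (gE ≫ iG) ?_ ?_)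
      · rw [hl]
        exact EtO.comp hEt (EtO.of_etale (K610.OpenImm.repWith_etale_of_open hi) _)
      · rw [hr]
        exact EtO.of_etale (MorphismProperty.comp_mem _ _ _ (K610.OpenImm.repWith_etale_of_open
          ((repWith_yon_map_iff _ _).2 hι₀)) (K610.OpenImm.repWith_etale_of_open hj)) _
    · exact etO_norm hjν ha hj hO'j

theorem covO_of_GEX [QuasiSeparatedSpace ↥S] (n : ℕ) : ∀ {X : Sp S} {U : Over S} {a : (yon S).obj U ⟶ X}
    {O : Set (Points X)}, IsAlgSpace X → IsQuasiSeparatedSp X → IsAffine U.left → RepWith @Etale a →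
    RepWith @Surjective a → GEX a (n + 1) = ∅ → IsOpen O → Dense O → IsCompact (Points.ofPt a ⁻¹' O) →
    IntO a O → CovO a O := by
  induction n with
  | zero => exact fun _ _ _ ha has hG _ _ _ _ => covO_of_GEX_one ha has hG _
  | succ n ih => exact fun hX hqs hU ha has hG hO hOd hOc hOi => covO_step (n + 1) ih hX hqs hU ha has hG hO hOd hOc hOi

/-- Every affine étale surjective chart `a` of a quasi-separated algebraic space which is integral over the dense
open `O` has an integral surjective cover by a scheme, étale over `O`, factoring Zariski locally through `a`. -/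
theorem covO [QuasiSeparatedSpace ↥S] {X : Sp S} {U : Over S} {a : (yon S).obj U ⟶ X} {O : Set (Points X)}
    (hX : IsAlgSpace X) (hqs : IsQuasiSeparatedSp X) (hU : IsAffine U.left) (ha : RepWith @Etale a)
    (has : RepWith @Surjective a) (hO : IsOpen O) (hOd : Dense O) (hOc : IsCompact (Points.ofPt a ⁻¹' O))
    (hOi : IntO a O) : CovO a O := by
  obtain ⟨N, hN⟩ := K619.GEBound.exists_GEX_eq_empty hX hqs ha has
  exact covO_of_GEX N hX hqs hU ha has (Set.subset_empty_iff.1 (hN ▸ GEX_antitone a (Nat.le_succ N))) hO hOd hOc hOi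

end K623.IntEt
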