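import Groth.Agent.AlgSp.K623.IntEt
import Groth.Agent.AlgSp.K623.DegStrat
import Groth.Agent.AlgSp.K623.BddQF
import Groth.Agent.AlgSp.K623.Bdd

/-!
# Integral surjective covers by schemes, finite étale over a dense quasi-compact open

* `exists_isCompact_dense`: with finitely many irreducible components, a dense open contains a dense compact open.
* `dense_strata`, `intO_strata`: an étale separated chart is integral over the dense open union of the interiors of
  its degree strata.
* `exists_cover`: the theorem (S10421).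
-/

set_option autoImplicit false
universe u
open CategoryTheory CategoryTheory.Limits AlgebraicGeometry Opposite AlgSp

namespace K623.IntEt2

open Topology K623.DegStrat K623.IntEt

section Top

variable {α : Type*} [TopologicalSpace α]

theorem exists_isCompact_dense (hfin : (irreducibleComponents α).Finite)
    (hb : ∀ (x : α) (W : Set α), IsOpen W → x ∈ W → ∃ V : Set α, IsOpen V ∧ IsCompact V ∧ x ∈ V ∧ V ⊆ W)
    {D : Set α} (hD : IsOpen D) (hDd : Dense D) :
    ∃ O : Set α, IsOpen O ∧ IsCompact O ∧ O ⊆ D ∧ Dense O := by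
  have key : ∀ Z ∈ irreducibleComponents α,
      ∃ K : Set α, IsOpen K ∧ IsCompact K ∧ K.Nonempty ∧ K ⊆ Z ∧ K ⊆ D := by
    intro Z hZ
    have hf : (irreducibleComponents α \ {Z}).Finite := hfin.subset Set.sdiff_subset
    have hC : IsClosed (⋃₀ (irreducibleComponents α \ {Z})) := by
      rw [Set.sUnion_eq_biUnion]
      exact hf.isClosed_biUnion fun Z' hZ' => isClosed_of_mem_irreducibleComponents Z' hZ'.1
    have hne : ((⋃₀ (irreducibleComponents α \ {Z}))ᶜ).Nonempty := by
      by_contra hne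
      rw [Set.not_nonempty_iff_eq_empty, Set.compl_empty_iff] at hne
      obtain ⟨Z', hZ', h2⟩ := isIrreducible_iff_sUnion_isClosed.1 hZ.1 hf.toFinset
        (fun Z' hZ' => isClosed_of_mem_irreducibleComponents Z' (hf.mem_toFinset.1 hZ').1) (by
          rw [hf.coe_toFinset, hne]
          exact Set.subset_univ _)
      have h3 := hf.mem_toFinset.1 hZ'
      exact h3.2 (h2.antisymm (hZ.2 h3.1.1 h2)).symm
    obtain ⟨x, hx1, hx2⟩ := hDd.inter_open_nonempty _ hC.isOpen_compl hne
    obtain ⟨K, hK1, hK2, hxK, hKs⟩ := hb x _ (hC.isOpen_compl.inter hD) ⟨hx1, hx2⟩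
    refine ⟨K, hK1, hK2, ⟨x, hxK⟩, fun y hy => ?_, fun y hy => (hKs hy).2⟩
    by_contra hyZ
    refine (hKs hy).1 ⟨irreducibleComponent y, ⟨irreducibleComponent_mem_irreducibleComponents y,
      fun h => hyZ ?_⟩, mem_irreducibleComponent⟩
    rw [Set.mem_singleton_iff] at h
    rw [← h]
    exact mem_irreducibleComponent
  choose K hK1 hK2 hK3 hK4 hK5 using key
  have : Finite ↥(irreducibleComponents α) := hfin
  refine ⟨⋃ Z : ↥(irreducibleComponents α), K Z.1 Z.2, ?_, ?_, ?_, ?_⟩
  · exact isOpen_iUnion fun Z => hK1 _ _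
  · exact isCompact_iUnion fun Z => hK2 _ _
  · exact Set.iUnion_subset fun Z => hK5 _ _
  · rw [dense_iff_inter_open]
    rintro W hW ⟨x, hx⟩
    have hZ := irreducibleComponent_mem_irreducibleComponents x
    obtain ⟨y, hy⟩ := hK3 _ hZ
    obtain ⟨z, -, hz1, hz2⟩ := hZ.1.2 W (K _ hZ) hW (hK1 _ hZ) ⟨x, mem_irreducibleComponent, hx⟩
      ⟨y, hK4 _ hZ hy, hy⟩
    exact ⟨z, hz1, Set.mem_iUnion.2 ⟨⟨_, hZ⟩, hz2⟩⟩

theorem dense_strata {D : ℕ → Set α} (h0 : D 0 = Set.univ) {N : ℕ} (hN : D N = ∅) :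
    Dense (⋃ r, D r \ closure (D (r + 1))) := by
  rw [dense_iff_inter_open]
  intro W hW hWn
  obtain ⟨r, ⟨x, hx1, hx2⟩, hr⟩ : ∃ r, (W ∩ D r).Nonempty ∧ ¬ (W ∩ D (r + 1)).Nonempty := by
    by_contra hne
    push Not at hne
    have h1 : ∀ r, (W ∩ D r).Nonempty := fun r => by
      induction r with
      | zero => rwa [h0, Set.inter_univ]
      | succ r ih => exact hne r ih
    have h2 := h1 N
    rw [hN, Set.inter_empty] at h2
    exact Set.not_nonempty_empty h2
  exact ⟨x, hx1, Set.mem_iUnion.2 ⟨r, hx2, fun hx3 => hr (mem_closure_iff.1 hx3 W hW hx1)⟩⟩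

end Top

variable {S : Scheme.{u}}

theorem exists_degFibresLE [QuasiSeparatedSpace ↥S] {X : Sp S} (hX : IsAlgSpace X) (hqs : IsQuasiSeparatedSp X)
    {U : Over S} [CompactSpace ↥U.left] {a : (yon S).obj U ⟶ X} (ha : RepWith @Etale a) :
    ∃ n, W4dec.DegFibresLE n a := by
  obtain ⟨R, p, q, sq⟩ := K609.Sep.exists_isPullback_yon hX.diag a a
  have : CompactSpace ↥R.left := K609.Sep.compactSpace_pullback hqs sq
  have : Etale q.left := ha.2 _ _ _ sq
  have : LocallyQuasiFinite q.left := K617.EtFin.locallyQuasiFinite_of_etale _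
  obtain ⟨n, hn⟩ := K623.BddQF.exists_fle_of_compactSpace q.left
  refine ⟨n, K623.Bdd.degFibresLE_of_baseChange (g := a) sq ?_ ((K623.BddFle.degFibresLE_yon_iff q).2 hn)⟩
  rw [K610.SchLocus.range_ofPt]

theorem intO_strata {X : Sp S} {U : Over S} {a : (yon S).obj U ⟶ X}
    (hfl : RepWith @Flat a) (hfp : RepWith @LocallyOfFinitePresentation a)
    (hsep : RepWith @IsSeparated a) (hqf : RepWith @LocallyQuasiFinite a) :
    IntO a (⋃ r, degSet a r \ closure (degSet a (r + 1))) := by
  intro T Q t ht fst snd sq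
  let O : ℕ → T.left.Opens := fun r => ⟨Points.ofPt t ⁻¹' (degSet a r \ closure (degSet a (r + 1))),
    ((isOpen_degSet a hfl hfp hsep hqf r).sdiff isClosed_closure).preimage (Points.continuous_ofPt t)⟩
  have hO : ⨆ r, O r = ⊤ := by
    rw [eq_top_iff]
    intro x _
    obtain ⟨r, hr⟩ := Set.mem_iUnion.1 (ht x)
    exact TopologicalSpace.Opens.mem_iSup.2 ⟨r, hr⟩
  refine (IsZariskiLocalAtTarget.iff_of_iSup_eq_top (P := @IsIntegralHom) O hO).2 fun r => ?_
  let T' : Over S := Over.mk ((O r).ι ≫ T.hom)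
  let i : T' ⟶ T := Over.homMk (O r).ι rfl
  let Q' : Over S := Over.mk ((snd.left ⁻¹ᵁ O r).ι ≫ Q.hom)
  let k : Q' ⟶ Q := Over.homMk (snd.left ⁻¹ᵁ O r).ι rfl
  let s : Q' ⟶ T' := Over.homMk (snd.left ∣_ O r) (by
    change (snd.left ∣_ O r) ≫ (O r).ι ≫ T.hom = (snd.left ⁻¹ᵁ O r).ι ≫ Q.hom
    rw [← Category.assoc, morphismRestrict_ι, Category.assoc, Over.w snd])
  have sq1 : IsPullback k s snd i := K596.Univ.isPullback_over
    (Over.OverMorphism.ext (morphismRestrict_ι _ _).symm) (isPullback_morphismRestrict snd.left (O r)).flip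
  have sq2 : IsPullback ((yon S).map k ≫ fst) ((yon S).map s) a ((yon S).map i ≫ t) :=
    (K615.Int.isPullback_yon sq1).paste_horiz sq
  have h1 : IsFinLocFreeOfDegMor r ((yon S).map s) :=
    (isFinLocFreeOfDegMor_iff a hfl hfp hsep hqf r _ _ _ sq2).2 (by
      rw [← K610.SchLocus.range_ofPt]
      rintro _ ⟨x, rfl⟩
      rw [K610.Base.ofPt_map_comp]
      have h2 : Points.ofPt t (i.left x) ∈ degSet a r \ closure (degSet a (r + 1)) := x.2
      exact ⟨h2.1, fun h => h2.2 (subset_closure h)⟩)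
  have h2 : finLocFreeOfDeg r s.left := (repWith_yon_map_iff (finLocFreeOfDeg r) s).1 h1
  have h3 : IsFinite s.left := h2.1.1
  change IsIntegralHom s.left
  infer_instance

theorem exists_cover [QuasiSeparatedSpace ↥S] (X : Space S) (hqc : IsQuasiCompactSp X.obj)
    (hqs : IsQuasiSeparatedSp X.obj) (hirr : (irreducibleComponents (Points X.obj)).Finite)
    {V : Over S} (b : (yon S).obj V ⟶ X.obj) (hb : RepWith @Etale b) (hbs : RepWith @Surjective b) :
    ∃ (Y : Over S) (g : (yon S).obj Y ⟶ X.obj) (U : Space S) (jU : U ⟶ X),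
      RepWith @IsIntegralHom g ∧ RepWith @Surjective g ∧
      RepWith @IsOpenImmersion jU.hom ∧ IsQuasiCompactSp U.obj ∧ Dense (Set.range (Points.map jU.hom)) ∧
      (∀ (P : Sp S) (fst : P ⟶ (yon S).obj Y) (snd : P ⟶ U.obj), IsPullback fst snd g jU.hom →
        RepWith @IsFinite snd ∧ RepWith @Etale snd) ∧ K619.IntCover.LF b g := by
  obtain ⟨U', φ, hU', ha, has⟩ := K619.IntCover.exists_affine_refinement X.property hqc hb hbs
  obtain ⟨n, hn⟩ := exists_degFibresLE X.property hqs ha
  have hfl := K610.Base.repWith_mono (fun _ _ f (_ : Etale f) => (inferInstance : Flat f)) ha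
  have hfp := K610.Base.repWith_mono (fun _ _ f (_ : Etale f) => (inferInstance : LocallyOfFinitePresentation f)) ha
  have hsep := K609.Sep.repWith_isSeparated ha.1
  have hqf := K610.Base.repWith_mono (fun _ _ f (_ : Etale f) => K617.EtFin.locallyQuasiFinite_of_etale f) ha
  have hDi := intO_strata hfl hfp hsep hqf
  have hDd := dense_strata (D := fun r => degSet ((yon S).map φ ≫ b) r) (degSet_zero _ hfl)
    (degSet_eq_empty _ hfl hfp hsep hqf hn)
  have hDo : IsOpen (⋃ r, degSet ((yon S).map φ ≫ b) r \ closure (degSet ((yon S).map φ ≫ b) (r + 1))) :=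
    isOpen_iUnion fun r => (isOpen_degSet _ hfl hfp hsep hqf r).sdiff isClosed_closure
  obtain ⟨O, hO1, hO2, hO3, hO4⟩ := exists_isCompact_dense hirr
    (fun x W hW hx => K609.QC.exists_isOpen_isCompact_nhd X.property x W hW hx) hDo hDd
  obtain ⟨U, jU, hjU, hrU⟩ := K610.Sub.exists_open_subspace X O hO1
  have hUc : CompactSpace (Points U.obj) := by
    rw [← hrU, ← Set.image_univ] at hO2
    exact ⟨(K610.OpenImm.isOpenEmbedding_points X.property hjU).isInducing.isCompact_iff.2 hO2⟩
  have hUqc := K609.QC.isQuasiCompactSp_of_compactSpace U.property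
  have hjUq : IsQuasiCompactMor jU.hom :=
    K596.QC2.isQuasiCompactMor_of_qc_of_qs U.property X.property jU.hom hUqc hqs
  have hOc : IsCompact (Points.ofPt ((yon S).map φ ≫ b) ⁻¹' O) := by
    have h1 : RepWith @QuasiCompact jU.hom := K596.QC.repWith_of_isQuasiCompactMor hjU.1 hjUq
    obtain ⟨U₀, s, l, sq⟩ := hjU.1 ((yon S).map φ ≫ b)
    have h2 : QuasiCompact s.left := h1.2 _ _ _ sq
    have h3 : CompactSpace U₀.left := QuasiCompact.compactSpace_of_compactSpace s.left
    have h4 : Points.ofPt ((yon S).map φ ≫ b) ⁻¹' O = Set.range s.left := by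
      ext x
      constructor
      · intro hx
        obtain ⟨z, hz⟩ : Points.ofPt ((yon S).map φ ≫ b) x ∈ Set.range (Points.map jU.hom) := by
          rw [hrU]; exact hx
        obtain ⟨v, -, hv⟩ := K610.Base.exists_of_isPullback_yon sq z x hz
        exact ⟨v, hv⟩
      · rintro ⟨v, rfl⟩
        rw [Set.mem_preimage, ← K610.Base.ofPt_map_comp, ← sq.w, ← hrU]
        exact ⟨Points.ofPt l v, rfl⟩
    rw [h4]
    exact isCompact_range s.left.continuous
  obtain ⟨Y, g, hg, hgs, hLF, hE⟩ := covO X.property hqs hU' ha has hO1 hO4 hOc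
    (fun T Q t ht => hDi t fun x => hO3 (ht x))
  refine ⟨Y, g, U, jU, hg, hgs, hjU, hUqc, ?_, ?_, ?_⟩
  · rw [hrU]
    exact hO4
  · intro P fst snd sq
    have hm : Mono jU.hom := K610.Factor.mono_of_isOpenImmersion hjU
    have hfst : RepWith @IsOpenImmersion fst :=
      MorphismProperty.of_isPullback (P := RepWith @IsOpenImmersion) sq.flip hjU
    have hint : RepWith @IsIntegralHom snd :=
      MorphismProperty.of_isPullback (P := RepWith @IsIntegralHom) sq hg
    obtain ⟨P₀, s, l, sq₀⟩ := hfst.1 (𝟙 _)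
    have hl : IsIso l := sq₀.flip.isIso_snd_of_isIso
    have h1 : RepWith @Etale (l ≫ fst) := MorphismProperty.comp_mem _ _ _
      (MorphismProperty.of_isIso (P := RepWith @Etale) l) (K610.OpenImm.repWith_etale_of_open hfst)
    have h2 : RepWith @Etale ((l ≫ fst) ≫ g) := hE _ h1 fun t => by
      rw [Category.assoc, sq.w, ← hrU]
      exact ⟨Points.ofPt (l ≫ snd) t, rfl⟩
    have h3 : RepWith @Etale snd := by
      refine K610.OpenImm.repWith_of_comp_mono (j := jU.hom) ?_
      rw [← sq.w]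
      rw [Category.assoc] at h2
      exact (MorphismProperty.cancel_left_of_respectsIso (RepWith @Etale) l (fst ≫ g)).1 h2
    refine ⟨⟨h3.1, fun T Q t f p sq' => ?_⟩, h3⟩
    have h4 : Etale p.left := h3.2 _ _ _ sq'
    have h5 : IsIntegralHom p.left := hint.2 _ _ _ sq'
    exact (IsFinite.iff_isIntegralHom_and_locallyOfFiniteType p.left).2 ⟨h5, inferInstance⟩
  · intro y
    obtain ⟨V₁, v, c, hv, hy, e⟩ := hLF y
    exact ⟨V₁, v, c ≫ φ, hv, hy, by rw [Functor.map_comp, Category.assoc, e]⟩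

end K623.IntEt2
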