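import Groth.Agent.AlgSp.K619.QCPoint
import Groth.Agent.AlgSp.K620.Dec
import Groth.Agent.AlgSp.K595.DiagRel
import Groth.Agent.AlgSp.K613.Chart
import Groth.Prelude.Def_AlgSp3

/-!
# Quasi-separated morphisms and decency

* `compactSpace_of_qs` : for `f : P ⟶ h_T` quasi-separated, `T` quasi-separated, `h_U ⟶ P` with `U` quasi-compact,
  the scheme `U ×_P U` is quasi-compact.
* `finFibres2_of_qs` : the finiteness condition (1) of the equivalent conditions at a point, for such `P`.
* `representable_isDecentMor` : representable morphisms are decent.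
-/

set_option autoImplicit false
universe u
open CategoryTheory CategoryTheory.Limits AlgebraicGeometry Opposite Topology AlgSp

namespace K623.QSep

variable {S : Scheme.{u}}

theorem compactSpace_of_qs {P : Sp S} {T U R : Over S} (f : P ⟶ (yon S).obj T)
    (hf : IsQuasiSeparatedMor f) [QuasiSeparatedSpace ↥T.left] [CompactSpace ↥U.left]
    {φ : (yon S).obj U ⟶ P} {s t : R ⟶ U}
    (sq : IsPullback ((yon S).map t) ((yon S).map s) φ φ) : CompactSpace ↥R.left := by
  obtain ⟨g, hg⟩ := (yon S).map_surjective (φ ≫ f)
  -- `U ×_T U`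
  have sqW : IsPullback ((yon S).map (pullback.fst g g)) ((yon S).map (pullback.snd g g))
      ((yon S).map g) ((yon S).map g) := (IsPullback.of_hasPullback g g).map (yon S)
  have sqW' : IsPullback ((yon S).map (pullback.fst g g)) ((yon S).map (pullback.snd g g))
      (φ ≫ f) (φ ≫ f) := by rw [← hg]; exact sqW
  have h1 : RepWith @QuasiCompact (pullback.mapDesc φ φ f) :=
    K595.DiagRel.repWith_mapDesc φ φ f hf
  obtain ⟨j, hj⟩ := (yon S).map_surjective (sq.isoPullback.hom ≫ pullback.mapDesc φ φ f ≫ sqW'.isoPullback.inv)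
  have h2 : RepWith @QuasiCompact ((yon S).map j) := by
    rw [hj]
    refine MorphismProperty.RespectsIso.precomp _ _ _ ?_
    exact MorphismProperty.RespectsIso.postcomp _ _ _ h1
  have h3 : QuasiCompact j.left := (repWith_yon_map_iff _ _).1 h2
  have h4 : QuasiCompact g.left := inferInstance
  have h5 : IsPullback (pullback.fst g g).left (pullback.snd g g).left g.left g.left :=
    (IsPullback.of_hasPullback g g).map (Over.forget S)
  have h6 : QuasiCompact (pullback.fst g g).left := MorphismProperty.of_isPullback h5.flip h4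
  have h7 : CompactSpace ↥(pullback g g).left :=
    QuasiCompact.compactSpace_of_compactSpace (pullback.fst g g).left
  exact QuasiCompact.compactSpace_of_compactSpace j.left

/-- The fibres of a quasi-compact étale morphism are finite. -/
theorem finite_fibre_of_etale {X Y : Scheme.{u}} (f : X ⟶ Y) [Etale f] [QuasiCompact f] (y : ↥Y) :
    (f ⁻¹' {y}).Finite := by
  have : LocallyQuasiFinite f := K618.Sch.locallyQuasiFinite_of_etale f
  exact f.finite_preimage_singleton y

theorem finFibres2_of_qs {P : Sp S} {T : Over S} (f : P ⟶ (yon S).obj T)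
    (hf : IsQuasiSeparatedMor f) [QuasiSeparatedSpace ↥T.left] (x : Points P) :
    K619.QCPoint.FinFibres2 P x := by
  intro U φ hU hφ R s t sq
  have hR : CompactSpace ↥R.left := compactSpace_of_qs f hf sq
  have hs : Etale s.left := hφ.2 _ _ _ sq
  have ht : Etale t.left := hφ.2 _ _ _ sq.flip
  have hsq : QuasiCompact s.left := inferInstance
  have htq : QuasiCompact t.left := inferInstance
  have h1 : (Points.ofPt φ ⁻¹' {x}).Finite := by
    rcases (Points.ofPt φ ⁻¹' {x}).eq_empty_or_nonempty with h | ⟨u0, hu0⟩
    · rw [h]; exact Set.finite_empty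
    · refine ((finite_fibre_of_etale s.left u0).image t.left).subset ?_
      intro u hu
      have he : Points.ofPt φ u = Points.ofPt φ u0 := by
        rw [Set.mem_preimage, Set.mem_singleton_iff] at hu hu0
        rw [hu, hu0]
      obtain ⟨r, hr1, hr2⟩ := K621.Base.exists_point_of_isPullback sq u u0 he
      exact ⟨r, hr2, hr1⟩
  refine ⟨h1, ?_⟩
  refine (h1.preimage' (f := t.left) fun u _ => finite_fibre_of_etale t.left u).subset ?_
  intro r hr
  rw [Set.mem_preimage, K621.Base.ofPt_comp] at hr
  exact hr

/-- Representable morphisms are decent. -/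
theorem isDecentMor_of_representable {X Y : Sp S} (f : X ⟶ Y) (hf : Representable f) : IsDecentMor f := by
  intro T F' g fst snd sq
  obtain ⟨V, snd', fst', sq'⟩ := hf g
  exact (K620.Dec.isDecent_yon V).of_iso (sq'.isoIsPullback _ _ sq)

/-- Quasi-separated morphisms are decent, given the equivalence of the pointwise conditions. -/
theorem isDecentMor_of_qs {X Y : Sp S} (hX : IsAlgSpace X) (hY : IsAlgSpace Y) (f : X ⟶ Y)
    (hf : IsQuasiSeparatedMor f)
    (H : ∀ (P : Sp S), IsAlgSpace P → (∀ x : Points P, K619.QCPoint.FinFibres2 P x) → IsDecent P) :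
    IsDecentMor f := by
  refine K620.Dec.isDecentMor_of_field_base_changes f fun k _ str g P fst snd sq => ?_
  have hP : IsAlgSpace P := K613.Chart.isAlgSpace_of_isPullback hY.diag hX (IsAlgSpace.yon_obj _) sq
  have hs : IsQuasiSeparatedMor snd :=
    K595.DiagRel.isQuasiSeparatedMor_isStableUnderBaseChange.of_isPullback sq hf
  have : QuasiSeparatedSpace ↥(Over.mk str).left :=
    inferInstanceAs (QuasiSeparatedSpace ↥(Spec (CommRingCat.of k)))
  exact H P hP fun x => finFibres2_of_qs snd hs x

end K623.QSep
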